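import Groth.Agent.SDiv.K473.SeqFlat
import Groth.Agent.Divis.IdealComap

/-!
# Local calculus of regular immersions

* `ker_app_of_isPullback`: in a cartesian square with `i ∣_ U` a closed immersion, the ideal of the base change on an
  affine open `V` over `U` is the extended ideal;
* `At.baseChange_flat`, `At.shrink`: flat base change, passing to smaller affine opens;
* `IsRegularImmersion` under flat base change, precomposition with isomorphisms; local on the source and target.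
-/

set_option autoImplicit false
universe u

open CategoryTheory CategoryTheory.Limits AlgebraicGeometry TopologicalSpace

namespace K473.RegImmCalc

open Groth.Agent.Divis.IdealComap K473.SeqFlat

variable {X X' Z Z' : Scheme.{u}}

lemma ker_conj {A A' B B' : CommRingCat.{u}} (e₁ : A ≅ A') (φ : A' ⟶ B') (e₂ : B' ≅ B) :
    RingHom.ker (e₁.hom ≫ φ ≫ e₂.hom).hom = (RingHom.ker φ.hom).comap e₁.hom.hom := by
  ext x
  simp only [RingHom.mem_ker, Ideal.mem_comap, CommRingCat.hom_comp, RingHom.coe_comp, Function.comp_apply]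
  constructor
  · intro h
    have h2 := congr(e₂.inv.hom $h)
    simpa using h2
  · intro h
    rw [h, map_zero]

lemma ker_resLE_top (f : X ⟶ Z) {U : Z.Opens} {V : X.Opens} (e : V ≤ f ⁻¹ᵁ U) :
    RingHom.ker ((f.resLE U V e).app ⊤).hom = (RingHom.ker (f.appLE U V e).hom).comap U.topIso.hom.hom := by
  rw [Scheme.Hom.resLE_app_top]
  exact ker_conj U.topIso (f.appLE U V e) V.topIso.symm

/-- The ideal of a closed immersion under base change, on affine opens. -/
theorem ker_app_of_isPullback {i : Z ⟶ X} {i' : Z' ⟶ X'} {g' : Z' ⟶ Z} {g : X' ⟶ X}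
    (h : IsPullback g' i' i g) {U : X.Opens} (hU : IsAffineOpen U) {V : X'.Opens} (hV : IsAffineOpen V)
    (e : V ≤ g ⁻¹ᵁ U) (hi : IsClosedImmersion (i ∣_ U)) :
    IsClosedImmersion (i' ∣_ V) ∧
      RingHom.ker (i'.app V).hom = (RingHom.ker (i.app U).hom).map (g.appLE U V e).hom := by
  have hpb := Scheme.Hom.isPullback_resLE h (US := U) (UT := V) (UX := i ⁻¹ᵁ U) (UY := i' ⁻¹ᵁ V) e le_rfl
    (by
      refine (inf_eq_right.mpr ?_).symm
      rw [← Scheme.Hom.comp_preimage, h.w, Scheme.Hom.comp_preimage]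
      exact i'.preimage_mono e)
  rw [Scheme.Hom.resLE_eq_morphismRestrict, Scheme.Hom.resLE_eq_morphismRestrict] at hpb
  have hc : IsClosedImmersion (i' ∣_ V) := MorphismProperty.of_isPullback (P := @IsClosedImmersion) hpb hi
  refine ⟨hc, ?_⟩
  have : IsAffine U := hU
  have : IsAffine V := hV
  -- the kernel ideal sheaves
  have hk : (i' ∣_ V).ker = (i ∣_ U).ker.comap (g.resLE U V e) := by
    have h1 := Scheme.IdealSheafData.ker_fst_of_isClosedImmersion (i ∣_ U) (g.resLE U V e)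
    rw [← h1, ← hpb.flip.isoPullback_inv_fst, Scheme.Hom.ker_comp_of_isIso]
  have h2 := ideal_comap_top (i ∣_ U).ker (g.resLE U V e)
  rw [← hk, Scheme.Hom.ker_apply, Scheme.Hom.ker_apply] at h2
  change RingHom.ker ((i' ∣_ V).app ⊤).hom = Ideal.map _ (RingHom.ker ((i ∣_ U).app ⊤).hom) at h2
  rw [← Scheme.Hom.resLE_eq_morphismRestrict, ← Scheme.Hom.resLE_eq_morphismRestrict, ker_resLE_top,
    ker_resLE_top, Scheme.Hom.appTop, Scheme.Hom.resLE_app_top] at h2
  simp only [Scheme.Hom.app_eq_appLE]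
  have h3 := congr(Ideal.comap V.topIso.inv.hom $h2)
  rw [Ideal.comap_comap, ← CommRingCat.hom_comp, Iso.inv_hom_id, CommRingCat.hom_id, Ideal.comap_id] at h3
  rw [h3, ← map_eq_comap_of_iso V.topIso, Ideal.map_map, ← CommRingCat.hom_comp]
  have h4 := map_eq_comap_of_iso U.topIso.symm (RingHom.ker (i.appLE U (i ⁻¹ᵁ U) le_rfl).hom)
  simp only [Iso.symm_hom, Iso.symm_inv] at h4
  rw [← h4, Ideal.map_map, ← CommRingCat.hom_comp]
  congr 2
  simp only [Category.assoc, Iso.inv_hom_id_assoc, Iso.inv_hom_id, Category.comp_id]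

/-- `i` is given over the affine open `U` by a closed immersion whose ideal is generated by a sequence of kind `k`. -/
def On (k : RegImm.Kind) (i : Z ⟶ X) (U : X.affineOpens) : Prop :=
  IsClosedImmersion (i ∣_ U.1) ∧
    ∃ rs : List Γ(X, U.1), k.Seq Γ(X, U.1) rs ∧ RingHom.ker (i.app U.1).hom = Ideal.ofList rs

lemma at_iff {k : RegImm.Kind} {i : Z ⟶ X} {z : Z} :
    RegImm.IsRegularImmersionAt k i z ↔ ∃ U : X.affineOpens, i z ∈ U.1 ∧ On k i U := Iff.rfl

lemma ker_app_ne_top {i : Z ⟶ X} {U : X.Opens} {z : Z} (hz : i z ∈ U) : RingHom.ker (i.app U).hom ≠ ⊤ := by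
  intro h
  have h1 : (1 : Γ(X, U)) ∈ RingHom.ker (i.app U).hom := h ▸ trivial
  rw [RingHom.mem_ker, map_one] at h1
  have h2 := congr((Z.presheaf.germ (i ⁻¹ᵁ U) z hz).hom $h1)
  rw [map_one, map_zero] at h2
  exact one_ne_zero h2

/-- flat base change on affine opens -/
theorem On.of_isPullback {k : RegImm.Kind} {i : Z ⟶ X} {i' : Z' ⟶ X'} {g' : Z' ⟶ Z} {g : X' ⟶ X}
    [Flat g] (h : IsPullback g' i' i g) {U : X.affineOpens} {V : X'.affineOpens}
    (e : V.1 ≤ g ⁻¹ᵁ U.1) {z' : Z'} (hz' : i' z' ∈ V.1) (hi : On k i U) : On k i' V := by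
  obtain ⟨hc, rs, hrs, hk⟩ := hi
  obtain ⟨hc', hk'⟩ := ker_app_of_isPullback h U.2 V.2 e hc
  rw [hk, Ideal.map_ofList] at hk'
  refine ⟨hc', rs.map (g.appLE U.1 V.1 e).hom, seq_map_of_flat k _ (Scheme.Hom.flat_appLE g U.2 V.2 e) hrs ?_,
    hk'⟩
  rw [← hk']
  exact ker_app_ne_top hz'

/-- shrinking the affine open -/
theorem On.shrink {k : RegImm.Kind} {i : Z ⟶ X} {U V : X.affineOpens} (hVU : V.1 ≤ U.1) {z : Z}
    (hz : i z ∈ V.1) (hi : On k i U) : On k i V :=
  On.of_isPullback (g := 𝟙 X) (g' := 𝟙 Z) (IsPullback.of_horiz_isIso ⟨by simp⟩) (by simpa using hVU) hz hi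

/-- regular immersions at a point: arbitrarily small affine neighbourhoods -/
theorem At.exists_le {k : RegImm.Kind} {i : Z ⟶ X} {z : Z} (h : RegImm.IsRegularImmersionAt k i z)
    (W : X.Opens) (hW : i z ∈ W) : ∃ U : X.affineOpens, i z ∈ U.1 ∧ U.1 ≤ W ∧ On k i U := by
  obtain ⟨U, hzU, hU⟩ := h
  obtain ⟨V, hV, hxV, hVW⟩ := exists_isAffineOpen_mem_and_subset (U := W ⊓ U.1) (x := i z) ⟨hW, hzU⟩
  exact ⟨⟨V, hV⟩, hxV, fun _ h ↦ (hVW h).1,
    On.shrink (U := U) (V := ⟨V, hV⟩) (fun _ h ↦ (hVW h).2) hxV hU⟩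

/-- flat base change at a point -/
theorem At.of_isPullback {k : RegImm.Kind} {i : Z ⟶ X} {i' : Z' ⟶ X'} {g' : Z' ⟶ Z} {g : X' ⟶ X}
    [Flat g] (h : IsPullback g' i' i g) {z' : Z'} (hi : RegImm.IsRegularImmersionAt k i (g' z')) :
    RegImm.IsRegularImmersionAt k i' z' := by
  obtain ⟨U, hzU, hU⟩ := hi
  have hz' : i' z' ∈ g ⁻¹ᵁ U.1 := by
    change g (i' z') ∈ U.1
    rwa [← Scheme.Hom.comp_apply, ← h.w, Scheme.Hom.comp_apply]
  obtain ⟨V, hV, hxV, hVW⟩ := exists_isAffineOpen_mem_and_subset (U := g ⁻¹ᵁ U.1) (x := i' z') hz'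
  exact ⟨⟨V, hV⟩, hxV, On.of_isPullback h (V := ⟨V, hV⟩) hVW hxV hU⟩

/-- flat base change of regular immersions of any kind -/
theorem isRegularImmersion_of_isPullback {k : RegImm.Kind} {i : Z ⟶ X} {i' : Z' ⟶ X'} {g' : Z' ⟶ Z} {g : X' ⟶ X}
    [Flat g] (h : IsPullback g' i' i g) (hi : RegImm.IsRegularImmersion k i) : RegImm.IsRegularImmersion k i' :=
  ⟨MorphismProperty.of_isPullback (P := @IsImmersion) h hi.1, fun z' ↦ At.of_isPullback h (hi.2 (g' z'))⟩

/-- a weaker kind -/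
theorem On.mono_kind {k k' : RegImm.Kind} (hk : ∀ {R : Type u} [CommRing R] (rs : List R), k.Seq R rs → k'.Seq R rs)
    {i : Z ⟶ X} {U : X.affineOpens} (h : On k i U) : On k' i U := by
  obtain ⟨hc, rs, hrs, hk'⟩ := h
  exact ⟨hc, rs, hk rs hrs, hk'⟩

theorem isRegularImmersion_mono_kind {k k' : RegImm.Kind}
    (hk : ∀ {R : Type u} [CommRing R] (rs : List R), k.Seq R rs → k'.Seq R rs)
    {i : Z ⟶ X} (h : RegImm.IsRegularImmersion k i) : RegImm.IsRegularImmersion k' i :=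
  ⟨h.1, fun z ↦ by
    obtain ⟨U, hz, hU⟩ := h.2 z
    exact ⟨U, hz, On.mono_kind (k := k) (k' := k') hk hU⟩⟩

/-- every kind implies the kind `quasi` -/
theorem quasi_of_seq (k : RegImm.Kind) {R : Type u} [CommRing R] {rs : List R} (h : k.Seq R rs) :
    RegImm.Kind.quasi.Seq R rs := by
  cases k with
  | regular => exact quasi_of_h1 (h1_of_koszul (koszul_of_regular h))
  | koszul => exact quasi_of_h1 (h1_of_koszul h)
  | h1 => exact quasi_of_h1 h
  | quasi => exact h

end K473.RegImmCalc
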