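import Groth.Prelude.Def_MeroSh
import Groth.Agent.Divis.BlowUpFormal

/-!
# Regular sections of the structure sheaf (`Mero.regSub`)

* `mem_regSub_affine_iff`: over an affine open, the regular sections are the nonzerodivisors;
* `mem_regSub_of_affine`: test on an affine cover;
* `app_mem_regSub_of_flat`: flat pullback (also with flatness of the stalk maps only);
* `app_mem_regSub_of_flat_off`: pullback along a morphism which is flat off the support of an effective Cartier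
  divisor; `app_mem_regSub_of_isBlowUp`: pullback along blowing ups.
-/

set_option autoImplicit false
universe u

open CategoryTheory CategoryTheory.Limits AlgebraicGeometry TopologicalSpace Mero

namespace K473.MeroReg

open Groth.Agent.Divis.EffCartier Groth.Agent.Divis.BlowUpFormal Groth.Agent.Divis.IdealComap

variable {X Y : Scheme.{u}}

lemma mem_regSub_iff {U : X.Opens} {s : Γ(X, U)} :
    s ∈ regSub X U ↔ ∀ (x : X) (hx : x ∈ U), X.presheaf.germ U x hx s ∈ nonZeroDivisors (X.presheaf.stalk x) :=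
  ⟨fun h x hx ↦ h ⟨x, hx⟩, fun h x ↦ h x.1 x.2⟩

/-- the stalk map of an affine open is flat -/
lemma flat_germ {U : X.Opens} (hU : IsAffineOpen U) {x : X} (hx : x ∈ U) :
    (X.presheaf.germ U x hx).hom.Flat := by
  have := hU.isLocalization_stalk ⟨x, hx⟩
  let := X.presheaf.algebra_section_stalk ⟨x, hx⟩
  exact RingHom.flat_algebraMap_iff.mpr (IsLocalization.flat (X.presheaf.stalk x)
    (hU.primeIdealOf ⟨x, hx⟩).asIdeal.primeCompl)

lemma germ_mem_of_mem {U : X.Opens} (hU : IsAffineOpen U) {s : Γ(X, U)} (hs : s ∈ nonZeroDivisors Γ(X, U))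
    {x : X} (hx : x ∈ U) : X.presheaf.germ U x hx s ∈ nonZeroDivisors (X.presheaf.stalk x) :=
  map_mem_nonZeroDivisors_of_flat _ (flat_germ hU hx) hs

lemma mem_nonZeroDivisors_of_mem_regSub {U : X.Opens} {s : Γ(X, U)} (hs : s ∈ regSub X U) :
    s ∈ nonZeroDivisors Γ(X, U) := by
  rw [mem_nonZeroDivisors_iff_right]
  intro t ht
  refine TopCat.Presheaf.section_ext X.sheaf U t 0 fun x hx ↦ ?_
  change X.presheaf.germ U x hx t = X.presheaf.germ U x hx 0
  rw [map_zero]
  refine (mem_nonZeroDivisors_iff_right.mp (mem_regSub_iff.mp hs x hx)) _ ?_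
  rw [← map_mul, ht, map_zero]

/-- Over an affine open, regular sections are nonzerodivisors. -/
theorem mem_regSub_affine_iff {U : X.Opens} (hU : IsAffineOpen U) {s : Γ(X, U)} :
    s ∈ regSub X U ↔ s ∈ nonZeroDivisors Γ(X, U) :=
  ⟨mem_nonZeroDivisors_of_mem_regSub, fun h ↦ mem_regSub_iff.mpr fun _ hx ↦ germ_mem_of_mem hU h hx⟩

/-- Regular sections can be tested on affine neighbourhoods. -/
theorem mem_regSub_of_affine {U : X.Opens} {s : Γ(X, U)}
    (h : ∀ x ∈ U, ∃ (V : X.affineOpens) (_ : x ∈ V.1) (hV : V.1 ≤ U),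
      X.presheaf.map (homOfLE hV).op s ∈ nonZeroDivisors Γ(X, V.1)) : s ∈ regSub X U := by
  rw [mem_regSub_iff]
  intro x hx
  obtain ⟨V, hxV, hV, hs⟩ := h x hx
  have := germ_mem_of_mem V.2 hs hxV
  rwa [TopCat.Presheaf.germ_res_apply] at this

/-- Regular sections and affine opens. -/
theorem mem_regSub_iff_forall_affine {U : X.Opens} {s : Γ(X, U)} :
    s ∈ regSub X U ↔ ∀ (V : X.affineOpens) (hV : V.1 ≤ U),
      X.presheaf.map (homOfLE hV).op s ∈ nonZeroDivisors Γ(X, V.1) := by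
  refine ⟨fun h V hV ↦ mem_nonZeroDivisors_of_mem_regSub (regSub_res (homOfLE hV) h), fun h ↦
    mem_regSub_of_affine fun x hx ↦ ?_⟩
  obtain ⟨V, hV, hxV, hVU⟩ := exists_isAffineOpen_mem_and_subset (U := U) (x := x) hx
  exact ⟨⟨V, hV⟩, hxV, hVU, h ⟨V, hV⟩ hVU⟩

/-- pullback along a morphism all whose stalk maps at the points over `U` are flat -/
theorem app_mem_regSub_of_flat_stalkMap (f : X ⟶ Y) {U : Y.Opens} (hf : ∀ x ∈ f ⁻¹ᵁ U, (f.stalkMap x).hom.Flat)
    {s : Γ(Y, U)} (hs : s ∈ regSub Y U) : f.app U s ∈ regSub X (f ⁻¹ᵁ U) := by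
  rw [mem_regSub_iff]
  intro x hx
  rw [← Scheme.Hom.germ_stalkMap_apply f U x hx s]
  exact map_mem_nonZeroDivisors_of_flat _ (hf x hx) (mem_regSub_iff.mp hs (f x) hx)

theorem app_mem_regSub_of_flat (f : X ⟶ Y) [Flat f] {U : Y.Opens} {s : Γ(Y, U)} (hs : s ∈ regSub Y U) :
    f.app U s ∈ regSub X (f ⁻¹ᵁ U) :=
  app_mem_regSub_of_flat_stalkMap f (fun x _ ↦ Flat.stalkMap f x) hs

/-- pullback along a morphism which is flat off the support of an effective Cartier divisor -/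
theorem app_mem_regSub_of_flat_off {f : X ⟶ Y} {𝓓 : X.IdealSheafData} (h𝓓 : BlowUp.IsEffCartierIdeal 𝓓)
    (W : X.Opens) (hW : ∀ x : X, x ∉ 𝓓.support → x ∈ W)
    [Flat (W.ι ≫ f)] {U : Y.Opens} {s : Γ(Y, U)} (hs : s ∈ regSub Y U) :
    f.app U s ∈ regSub X (f ⁻¹ᵁ U) := by
  refine mem_regSub_of_affine fun x hx ↦ ?_
  obtain ⟨U', hU', hxU', hUU''⟩ := exists_isAffineOpen_mem_and_subset (U := U) (x := f x) hx
  have hUU' : U' ≤ U := hUU''
  obtain ⟨V, hxV, hVU, k, hk, hIk⟩ := exists_princAt h𝓓 x (f ⁻¹ᵁ U') hxU'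
  have hVU2 : V.1 ≤ f ⁻¹ᵁ U := hVU.trans (f.preimage_mono hUU')
  refine ⟨V, hxV, hVU2, ?_⟩
  have ha := mem_regSub_iff_forall_affine.mp hs ⟨U', hU'⟩ hUU'
  have h0 : X.presheaf.map (homOfLE hVU2).op (f.app U s) =
      f.appLE U' V.1 hVU (Y.presheaf.map (homOfLE hUU').op s) := by
    rw [← CommRingCat.comp_apply, ← CommRingCat.comp_apply]
    congr 2
    rw [Scheme.Hom.map_appLE]
    rfl
  rw [h0]
  refine mem_nonZeroDivisors_of_basicOpen V.2 hk ?_
  have hD : X.basicOpen k ≤ W := by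
    intro y hy
    apply hW
    intro hy'
    have hyV := X.basicOpen_le k hy
    rw [Scheme.IdealSheafData.mem_support_iff_of_mem hyV, hIk] at hy'
    rw [Scheme.zeroLocus_span, Scheme.zeroLocus_singleton] at hy'
    exact hy' hy
  have h1 := flat_appLE_of_flat_ι (f := f) hU' (V.2.basicOpen k) hD ((X.basicOpen_le k).trans hVU)
  have h2 := map_mem_nonZeroDivisors_of_flat _ h1 ha
  rw [← Scheme.Hom.appLE_map f hVU (homOfLE (X.basicOpen_le k)).op] at h2
  exact h2

/-- pullback along blowing ups -/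
theorem app_mem_regSub_of_isBlowUp {𝓘 : Y.IdealSheafData} {b : X ⟶ Y} (hb : BlowUp.IsBlowUp b 𝓘)
    {U : Y.Opens} {s : Γ(Y, U)} (hs : s ∈ regSub Y U) : b.app U s ∈ regSub X (b ⁻¹ᵁ U) := by
  have := isIso_morphismRestrict_compl_support hb 𝓘.support.compl disjoint_compl_left
  have h2 : Flat (Scheme.Opens.ι (b ⁻¹ᵁ 𝓘.support.compl) ≫ b) := by
    rw [← morphismRestrict_ι]
    infer_instance
  refine app_mem_regSub_of_flat_off hb.1 (b ⁻¹ᵁ 𝓘.support.compl) ?_ hs
  intro x hx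
  rw [Scheme.IdealSheafData.support_comap] at hx
  exact hx

end K473.MeroReg
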