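import Groth.Agent.Divis.WeakAssNoeth
import Groth.Agent.CohqA.AssSub
import Groth.Agent.Fga.SubobjSec
import Groth.Agent.Ega3B.Devissage
import Groth.Agent.FormalA.Support
import Groth.Agent.Sga67.QCohEpi
import Groth.Agent.S0046
import Groth.Agent.S13987

/-!
# Removing embedded points of a coherent sheaf
-/

set_option autoImplicit false
universe u
open CategoryTheory CategoryTheory.Limits AlgebraicGeometry TopologicalSpace Opposite
open Groth.Agent.Fdesc.QCohStalk Groth.Agent.Divis.WeakAss Groth.Agent.Divis.WeakAssNoeth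
open Groth.Agent.CohqA.AssSub Groth.Agent.Fga.SubobjSec Groth.Agent.Ega1 Groth.Agent.CycB.StalkExact

namespace Groth.Agent.K473.Embedded

/-- Every point of a closed subset is a specialization of a maximal point of it. -/
theorem exists_generic {T : Type*} [TopologicalSpace T] [QuasiSober T] [T0Space T]
    (Z : Set T) (hZ : IsClosed Z) (z : T) (hz : z ∈ Z) :
    ∃ x ∈ Z, x ⤳ z ∧ ∀ y ∈ Z, y ⤳ x → y = x := by
  have hq : QuasiSober Z := hZ.isClosedEmbedding_subtypeVal.quasiSober
  obtain ⟨x, hx⟩ := QuasiSober.sober (isIrreducible_irreducibleComponent (x := (⟨z, hz⟩ : Z)))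
    isClosed_irreducibleComponent
  have hxz : x ⤳ (⟨z, hz⟩ : Z) := by
    rw [specializes_iff_mem_closure, hx.def]
    exact mem_irreducibleComponent
  refine ⟨x.1, x.2, (subtype_specializes_iff _ _).1 hxz, fun y hy hyx => ?_⟩
  have h1 : (⟨y, hy⟩ : Z) ⤳ x := (subtype_specializes_iff _ _).2 hyx
  have h2 : closure {x} ⊆ closure {(⟨y, hy⟩ : Z)} := h1.closure_subset
  rw [hx.def] at h2
  have h3 := eq_irreducibleComponent
    (isPreirreducible_singleton (x := (⟨y, hy⟩ : Z))).closure h2
  have h4 : x ⤳ (⟨y, hy⟩ : Z) := by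
    rw [specializes_iff_closure_subset, h3, ← hx.def]
  exact (hyx.antisymm ((subtype_specializes_iff _ _).1 h4)).eq

variable {X : Scheme.{u}} (F : X.Modules)

/-- The generic points of the support. -/
def gen : Set X := {η | η ∈ CohB1.support F ∧ ∀ y ∈ CohB1.support F, y ⤳ η → y = η}

/-- The embedded (weakly) associated points. -/
def emb : Set X := {e | Curv2.IsWeakAssPoint F e ∧ e ∉ gen F}

variable {F}

/-- Every point of the support is a specialization of a generic point. -/
theorem exists_gen (hF : Coh.IsCoh F) {x : X} (hx : x ∈ CohB1.support F) :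
    ∃ η ∈ gen F, η ⤳ x := by
  obtain ⟨η, hη, h1, h2⟩ := exists_generic _ (FormalA.Support.isClosed_support F hF.2) x hx
  exact ⟨η, ⟨hη, h2⟩, h1⟩

theorem emb_not_specializes {e η : X} (he : e ∈ emb F) (hη : η ∈ gen F) : ¬ e ⤳ η := fun h => by
  have h1 := hη.2 e (mem_support_of_isWeakAssPoint he.1) h
  exact he.2 (h1 ▸ hη)

/-- Finiteness of associated points on affine opens. -/
theorem finite_ass [IsLocallyNoetherian X] (hF : Coh.IsCoh F) {V : X.Opens} (hV : IsAffineOpen V) :
    {x : X | x ∈ V ∧ Curv2.IsWeakAssPoint F x}.Finite := by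
  have : IsNoetherianRing Γ(X, V) := IsLocallyNoetherian.component_noetherian ⟨V, hV⟩
  have := Ega3B.DevQC.finite_sections hF hV
  exact finite_of_affine hF.1 hV

/-- Removing the closures of a locally finite family of points gives an open set. -/
theorem isOpen_compl [IsLocallyNoetherian X] (hF : Coh.IsCoh F) (S : Set X)
    (hS : ∀ x ∈ S, Curv2.IsWeakAssPoint F x) : IsOpen {x : X | ∀ e ∈ S, ¬ e ⤳ x} := by
  rw [isOpen_iff_forall_mem_open]
  intro x hx
  obtain ⟨V, hV, hxV, -⟩ := Opens.isBasis_iff_nbhd.mp X.isBasis_affineOpens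
    (show x ∈ (⊤ : X.Opens) from trivial)
  have hfin : {e : X | e ∈ V ∧ e ∈ S}.Finite :=
    (finite_ass hF hV).subset fun e he => ⟨he.1, hS e he.2⟩
  refine ⟨(V : Set X) \ ⋃ e ∈ {e : X | e ∈ V ∧ e ∈ S}, closure {e}, ?_,
    V.isOpen.sdiff (hfin.isClosed_biUnion fun e _ => isClosed_closure), hxV, ?_⟩
  · rintro y ⟨hyV, hy⟩ e he hey
    apply hy
    have heV : e ∈ V := hey.mem_open V.isOpen hyV
    exact Set.mem_biUnion (show e ∈ {e : X | e ∈ V ∧ e ∈ S} from ⟨heV, he⟩)
      (specializes_iff_mem_closure.mp hey)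
  · intro h
    rw [Set.mem_iUnion₂] at h
    obtain ⟨e, he, hex⟩ := h
    exact hx e he.2 (specializes_iff_mem_closure.mpr hex)

/-- The complement of the closures of the embedded points. -/
def U0 [IsLocallyNoetherian X] (hF : Coh.IsCoh F) : X.Opens :=
  ⟨{x : X | ∀ e ∈ emb F, ¬ e ⤳ x}, isOpen_compl hF _ fun _ hx => hx.1⟩

theorem gen_subset_U0 [IsLocallyNoetherian X] (hF : Coh.IsCoh F) {η : X} (hη : η ∈ gen F) :
    η ∈ U0 hF := fun _ he => emb_not_specializes he hη

theorem mem_gen_of_mem_U0 [IsLocallyNoetherian X] (hF : Coh.IsCoh F) {x : X} (hx : x ∈ U0 hF)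
    (hxa : Curv2.IsWeakAssPoint F x) : x ∈ gen F := by
  by_contra h
  exact hx x ⟨hxa, h⟩ (specializes_refl x)

/-- The family of sections of the subsheaf. -/
theorem mem_vanish_iff [IsLocallyNoetherian X] (hF : Coh.IsCoh F) {V : X.Opens} (s : Γ(F, V)) :
    s ∈ (vanish F (U0 hF)).obj V ↔ ∀ η (hη : η ∈ V), η ∈ gen F → F.presheaf.germ V η hη s = 0 := by
  rw [mem_vanish]
  constructor
  · intro h η hη hg
    have h1 : F.presheaf.germ (V ⊓ U0 hF) η ⟨hη, gen_subset_U0 hF hg⟩
        (SubSheaf.res F (inf_le_left : V ⊓ U0 hF ≤ V) s) = F.presheaf.germ V η hη s :=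
      germ_map F _ _ _ _
    rw [← h1, h, map_zero]
  · intro h
    refine eq_zero_of_affine F _ fun A hA hAaff => ?_
    by_contra hne
    obtain ⟨x, hxA, hxw, hx⟩ := exists_isWeakAssPoint_of_ne_zero hF.1 hAaff _ hne
    apply hx
    have hg := mem_gen_of_mem_U0 hF (hA hxA).2 hxw
    have h2 := h x (hA hxA).1 hg
    rw [germ_map]
    have h1 : F.presheaf.germ (V ⊓ U0 hF) x (hA hxA)
        (SubSheaf.res F (inf_le_left : V ⊓ U0 hF ≤ V) s) = F.presheaf.germ V x (hA hxA).1 s :=
      germ_map F _ _ _ _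
    rw [h1, h2]

theorem notMem_support_iff (K : Subobject F) (x : X) :
    x ∉ CohB1.support (K : X.Modules) ↔
      ∀ (V : X.Opens) (hx : x ∈ V) (s : Γ(F, V)), s ∈ (toSub K).obj V →
        F.presheaf.germ V x hx s = 0 := by
  constructor
  · intro h V hx s hs
    obtain ⟨t, rfl⟩ := mem_toSub.mp hs
    have hsub : Subsingleton ((K : X.Modules).presheaf.stalk x) := by
      by_contra h'
      exact h h'
    have h1 := stalkLin_germ K.arrow x hx t
    rw [← h1, Subsingleton.elim ((K : X.Modules).presheaf.germ V x hx t) 0, map_zero]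
  · intro h hx
    apply hx
    have h0 : ∀ t : (K : X.Modules).presheaf.stalk x, t = 0 := by
      intro t
      obtain ⟨V, hxV, t, rfl⟩ := TopCat.Presheaf.exists_germ_eq _ t
      apply stalkLin_injective K.arrow x
      rw [map_zero]
      exact (stalkLin_germ K.arrow x hxV t).trans (h V hxV _ (mem_toSub.mpr ⟨t, rfl⟩))
    exact ⟨fun a b => by rw [h0 a, h0 b]⟩

/-- The subsheaf. -/
noncomputable def sub [IsLocallyNoetherian X] (hF : Coh.IsCoh F) : Subobject F :=
  ofSub (vanish F (U0 hF))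

theorem mem_sub_iff [IsLocallyNoetherian X] (hF : Coh.IsCoh F) {V : X.Opens} (s : Γ(F, V)) :
    s ∈ (toSub (sub hF)).obj V ↔
      ∀ η (hη : η ∈ V), η ∈ gen F → F.presheaf.germ V η hη s = 0 := by
  rw [sub, toSub_ofSub, mem_vanish_iff]

theorem isCoh_sub [IsLocallyNoetherian X] (hF : Coh.IsCoh F) :
    Coh.IsCoh ((sub hF : Subobject F) : X.Modules) := by
  have h1 : Coh.IsCoh (vanish F (U0 hF)).toModules :=
    S0046.result X F _ (vanish F (U0 hF)).ι hF (isQCoh_vanish hF.1 _)
  exact Ega3B.DevQC.isCoh_of_iso (Subobject.underlyingIso (vanish F (U0 hF)).ι).symm h1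

theorem gen_notMem_support_sub [IsLocallyNoetherian X] (hF : Coh.IsCoh F) {η : X}
    (hη : η ∈ gen F) : η ∉ CohB1.support ((sub hF : Subobject F) : X.Modules) := by
  rw [notMem_support_iff]
  intro V hx s hs
  exact (mem_sub_iff hF s).mp hs η hx hη

theorem support_le (K : Subobject F) : CohB1.support (K : X.Modules) ⊆ CohB1.support F :=
  FormalA.Support.support_subset_of_mono K.arrow

/-- If no generic point lies in a closed set, it is nowhere dense in the support. -/
theorem nowhereDense (hF : Coh.IsCoh F) (S : Set X) (hS : ∀ η ∈ gen F, η ∉ S)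
    (U : X.Opens) (hU : (U : Set X) ∩ CohB1.support F ⊆ S) :
    (U : Set X) ∩ CohB1.support F = ∅ := by
  rw [Set.eq_empty_iff_forall_notMem]
  rintro x ⟨hxU, hx⟩
  obtain ⟨η, hη, hηx⟩ := exists_gen hF hx
  exact hS η hη (hU ⟨hηx.mem_open U.isOpen hxU, hη.1⟩)

/-- A closed subset, nowhere dense in the support, contains no generic point. -/
theorem notMem_of_nowhereDense [IsLocallyNoetherian X] (hF : Coh.IsCoh F) (S : Set X)
    (hS : IsClosed S)
    (h : ∀ U : X.Opens, (U : Set X) ∩ CohB1.support F ⊆ S → (U : Set X) ∩ CohB1.support F = ∅)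
    {η : X} (hη : η ∈ gen F) : η ∉ S := by
  intro hηS
  let W : X.Opens := ⟨{x : X | ∀ e ∈ gen F \ {η}, ¬ e ⤳ x}, isOpen_compl hF _ fun e he =>
    isWeakAssPoint_of_maximal_support hF.1 e he.1.1 he.1.2⟩
  have h1 : (W : Set X) ∩ CohB1.support F ⊆ S := by
    rintro x ⟨hxW, hx⟩
    obtain ⟨η', hη', hηx⟩ := exists_gen hF hx
    have h2 : η' = η := by
      by_contra hne
      exact hxW η' ⟨hη', hne⟩ hηx
    subst h2
    exact hηx.mem_closed hS hηS
  have h2 := h W h1
  have h3 : η ∈ (W : Set X) ∩ CohB1.support F :=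
    ⟨fun e he heη => he.2 (hη.2 e he.1.1 heη), hη.1⟩
  rw [h2] at h3
  exact h3

theorem le_sub [IsLocallyNoetherian X] (hF : Coh.IsCoh F) (K' : Subobject F)
    (hK' : Coh.IsCoh (K' : X.Modules))
    (h : ∀ U : X.Opens, (U : Set X) ∩ CohB1.support F ⊆ CohB1.support (K' : X.Modules) →
      (U : Set X) ∩ CohB1.support F = ∅) : K' ≤ sub hF := by
  rw [le_iff]
  intro U s hs
  rw [mem_sub_iff]
  intro η hη hg
  have h1 := notMem_of_nowhereDense hF _ (FormalA.Support.isClosed_support _ hK'.2) h hg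
  exact (notMem_support_iff K' η).mp h1 U hη s hs

theorem support_cokernel_union (K : Subobject F) :
    CohB1.support F = CohB1.support (K : X.Modules) ∪ CohB1.support (cokernel K.arrow) := by
  have hS : (ShortComplex.mk K.arrow (cokernel.π K.arrow) (cokernel.condition _)).ShortExact :=
    { exact := ShortComplex.exact_of_g_is_cokernel _ (cokernelIsCokernel _) }
  exact FormalA.Support.support_shortExact _ hS

theorem isCoh_cokernel [IsLocallyNoetherian X] (hF : Coh.IsCoh F) :
    Coh.IsCoh (cokernel (sub hF).arrow) :=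
  Ega3B.DevQC.isCoh_cokernel _ (isCoh_sub hF).1 hF

theorem support_cokernel [IsLocallyNoetherian X] (hF : Coh.IsCoh F) :
    CohB1.support (cokernel (sub hF).arrow) = CohB1.support F := by
  apply (FormalA.Support.support_subset_of_epi (cokernel.π (sub hF).arrow)).antisymm
  intro x hx
  obtain ⟨η, hη, hηx⟩ := exists_gen hF hx
  have h1 : η ∈ CohB1.support (cokernel (sub hF).arrow) := by
    have h2 := hη.1
    rw [support_cokernel_union (sub hF)] at h2
    exact h2.resolve_left (gen_notMem_support_sub hF hη)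
  exact hηx.mem_closed (FormalA.Support.isClosed_support _ (isCoh_cokernel hF).2) h1

/-- The weakly associated points of the quotient are generic. -/
theorem mem_gen_of_cokernel [IsLocallyNoetherian X] (hF : Coh.IsCoh F) {x : X}
    (hx : Curv2.IsWeakAssPoint (cokernel (sub hF).arrow) x) : x ∈ gen F := by
  have hQ := isCoh_cokernel hF
  have hxs : x ∈ CohB1.support F := by
    rw [← support_cokernel hF]
    exact mem_support_of_isWeakAssPoint hx
  obtain ⟨V, hV, hxV, -⟩ := Opens.isBasis_iff_nbhd.mp X.isBasis_affineOpens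
    (show x ∈ (⊤ : X.Opens) from trivial)
  have : IsNoetherianRing Γ(X, V) := IsLocallyNoetherian.component_noetherian ⟨V, hV⟩
  obtain ⟨m, hm⟩ := exists_eq_ann hQ.1 hV hxV hx
  obtain ⟨s, rfl⟩ := Sga67.QCohEpi.app_surjective (cokernel.π (sub hF).arrow) hF.1 hQ.1 hV m
  have hk : ∀ s' : Γ(F, V), (cokernel.π (sub hF).arrow).app V s' = 0 ↔
      s' ∈ (toSub (sub hF)).obj V := by
    intro s'
    rw [← mem_kernel_iff, kernelSubobject_cokernel]
  have hs : s ∉ (toSub (sub hF)).obj V := by
    intro h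
    rw [← hk] at h
    have h1 : (1 : Γ(X, V)) ∈ ann Γ(X, V) ((cokernel.π (sub hF).arrow).app V s) := by
      rw [mem_ann, h, smul_zero]
    rw [← hm] at h1
    exact (hV.primeIdealOf ⟨x, hxV⟩).isPrime.ne_top ((Ideal.eq_top_iff_one _).mpr h1)
  rw [mem_sub_iff] at hs
  push Not at hs
  obtain ⟨η, hη, hg, hne⟩ := hs
  have hxη : x ⤳ η := by
    rw [specializes_iff_primeIdealOf_le hV hη hxV]
    intro a ha
    by_contra haη
    have hau : IsUnit (X.presheaf.germ V η hη a) :=
      (X.mem_basicOpen a η hη).mp ((mem_basicOpen_iff hV η hη a).mpr haη)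
    rw [hm, mem_ann, ← SubSheaf.app_smul', hk, mem_sub_iff] at ha
    have h2 := ha η hη hg
    rw [germ_smul', ← smul_zero (X.presheaf.germ V η hη a)] at h2
    exact hne (hau.smul_left_cancel.mp h2)
  rw [hg.2 x hxs hxη]
  exact hg

end Groth.Agent.K473.Embedded
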