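import Groth.Agent.Divis.WeakAss
import Groth.Agent.Fdesc.PullbackStalk
import Mathlib.RingTheory.RingHom.Flat

/-!
# Weakly associated points of the pullback at generic points of fibres
-/

set_option autoImplicit false
universe u

open CategoryTheory CategoryTheory.Limits AlgebraicGeometry TopologicalSpace

namespace K473.WeakFlat

open Groth.Agent.Divis.WeakAss Groth.Agent.Fdesc Groth.Agent.Fdesc.QCohStalk

/-- If all primes over the maximal ideal are maximal then every element of the maximal ideal upstairs has a power in the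
extended ideal. -/
lemma exists_pow_mem {A B : Type*} [CommRing A] [CommRing B] [IsLocalRing A] [IsLocalRing B] (φ : A →+* B)
    (h : ∀ q : Ideal B, q.IsPrime → Ideal.comap φ q = IsLocalRing.maximalIdeal A → q = IsLocalRing.maximalIdeal B)
    (I : Ideal A) (hI : ∀ a ∈ IsLocalRing.maximalIdeal A, ∃ n : ℕ, a ^ n ∈ I)
    (b : B) (hb : b ∈ IsLocalRing.maximalIdeal B) : ∃ n : ℕ, b ^ n ∈ I.map φ := by
  have h1 : b ∈ (I.map φ).radical := by
    rw [Ideal.radical_eq_sInf, Submodule.mem_sInf]
    rintro q ⟨hq, hqp⟩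
    have h2 : Ideal.comap φ q = IsLocalRing.maximalIdeal A := by
      refine le_antisymm (IsLocalRing.le_maximalIdeal (Ideal.comap_ne_top φ hqp.ne_top)) fun a ha ↦ ?_
      obtain ⟨n, hn⟩ := hI a ha
      exact hqp.mem_of_pow_mem n (by rw [← map_pow]; exact hq (Ideal.mem_map_of_mem φ hn))
    rw [h q hqp h2]
    exact hb
  exact h1

variable {X S : Scheme.{u}}

/-- primes of the local ring at `x` and generizations of `x` -/
lemma eq_maximalIdeal_of_generic (f : X ⟶ S) (x : X) (hgen : ∀ y : X, f y = f x → y ⤳ x → y = x)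
    (q : Ideal (X.presheaf.stalk x)) (hq : q.IsPrime)
    (h : q.comap (f.stalkMap x).hom = IsLocalRing.maximalIdeal (S.presheaf.stalk (f x))) :
    q = IsLocalRing.maximalIdeal (X.presheaf.stalk x) := by
  let q' : Spec (X.presheaf.stalk x) := ⟨q, hq⟩
  let y : X := X.fromSpecStalk x q'
  have hy : y ⤳ x := by
    have : y ∈ Set.range (X.fromSpecStalk x) := ⟨_, rfl⟩
    rwa [Scheme.range_fromSpecStalk] at this
  have hfy : f y = f x := by
    have h1 : S.fromSpecStalk (f x) (Spec.map (f.stalkMap x) q') = f (X.fromSpecStalk x q') := by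
      rw [← Scheme.Hom.comp_apply, ← Scheme.Hom.comp_apply, Scheme.SpecMap_stalkMap_fromSpecStalk]
    change f (X.fromSpecStalk x q') = f x
    rw [← h1]
    conv_rhs => rw [← Scheme.fromSpecStalk_closedPoint (X := S) (x := f x)]
    congr 1
    exact PrimeSpectrum.ext h
  have hyx := hgen y hfy hy
  have h2 : X.fromSpecStalk x q' = X.fromSpecStalk x (IsLocalRing.closedPoint _) := by
    rw [Scheme.fromSpecStalk_closedPoint]
    exact hyx
  have h3 := (X.fromSpecStalk x).isEmbedding.injective h2
  exact congr_arg PrimeSpectrum.asIdeal h3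

/-- weakly associated points of pullbacks at the generic points of the fibres -/
theorem isWeakAssPoint_pullback (f : X ⟶ S) (G : S.Modules) (x : X) (hfl : (f.stalkMap x).hom.Flat)
    (hgen : ∀ y : X, f y = f x → y ⤳ x → y = x) (hs : Curv2.IsWeakAssPoint G (f x)) :
    Curv2.IsWeakAssPoint ((Scheme.Modules.pullback f).obj G) x := by
  rw [isWeakAssPoint_iff] at hs ⊢
  obtain ⟨m, hm0, hm⟩ := hs
  let := PullbackStalk.stalkAlg f x
  let := FlatMod.moduleStalkOver f ((Scheme.Modules.pullback f).obj G) x
  have := PullbackStalk.isScalarTower f ((Scheme.Modules.pullback f).obj G) x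
  have hbc := PullbackStalk.isBaseChange_can f G x
  have hflat : Module.Flat (S.presheaf.stalk (f x)) (X.presheaf.stalk x) := hfl
  have hloc : IsLocalHom (algebraMap (S.presheaf.stalk (f x)) (X.presheaf.stalk x)) := f.toLRSHom.prop x
  have hff : Module.FaithfullyFlat (S.presheaf.stalk (f x)) (X.presheaf.stalk x) :=
    Module.FaithfullyFlat.of_flat_of_isLocalHom
  refine ⟨PullbackStalk.canAdd f G x m, ?_, ?_⟩
  · intro h0
    apply hm0
    have h1 : hbc.equiv.symm (PullbackStalk.can f G x m) = 1 ⊗ₜ m := by
      rw [LinearEquiv.symm_apply_eq, IsBaseChange.equiv_tmul, one_smul]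
    have h2 : PullbackStalk.can f G x m = 0 := h0
    rw [h2, map_zero] at h1
    exact (Module.FaithfullyFlat.tensorProduct_mk_injective (A := S.presheaf.stalk (f x))
      (B := X.presheaf.stalk x) (G.presheaf.stalk (f x))) (by simpa using h1.symm)
  · intro b hb
    let I : Ideal (S.presheaf.stalk (f x)) := ann (S.presheaf.stalk (f x)) m
    obtain ⟨n, hn⟩ := exists_pow_mem (f.stalkMap x).hom (eq_maximalIdeal_of_generic f x hgen) I
      (fun a ha ↦ by
        obtain ⟨n, hn⟩ := hm a ha
        exact ⟨n, mem_ann.mpr hn⟩) b hb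
    refine ⟨n, ?_⟩
    have h3 : I.map (f.stalkMap x).hom ≤ ann (X.presheaf.stalk x) (PullbackStalk.canAdd f G x m) := by
      rw [Ideal.map_le_iff_le_comap]
      intro a ha
      rw [Ideal.mem_comap, mem_ann]
      have := PullbackStalk.canAdd_smul f G x a m
      rw [mem_ann.mp ha, map_zero] at this
      exact this.symm
    exact mem_ann.mp (h3 hn)

end K473.WeakFlat
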