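import Groth.Agent.CAlg.K75.WeakAssField
import Groth.Agent.Fdesc.PullbackSec
import Groth.Agent.Divis.WeakAssPush
import Groth.Agent.FormalA.PullbackQC
import Mathlib.AlgebraicGeometry.Morphisms.Flat

/-!
# Weakly associated points and extension of the base field
-/

set_option autoImplicit false
universe u

open CategoryTheory CategoryTheory.Limits AlgebraicGeometry TopologicalSpace

namespace K473.WeakField

open Groth.Agent.Divis.WeakAss Groth.Agent.Fdesc.PullbackSec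

lemma mem_weakAss_iff {R M : Type u} [CommRing R] [AddCommGroup M] [Module R M] {p : Ideal R} :
    p ∈ FlatCA.weakAss R M ↔ ∃ m : M, p ∈ (ann R m).minimalPrimes := by
  have h : ∀ m : M, (Submodule.span R {m}).annihilator = ann R m := fun m => by
    ext r
    rw [Submodule.mem_annihilator_span_singleton, mem_ann]
  simp only [FlatCA.weakAss, Set.mem_ofPred_eq, h]

/-- sections over the preimage of an affine open of a base change -/
theorem isPushout_sections {k K : Type u} [CommRing k] [CommRing K] [Algebra k K] {X Z : Scheme.{u}}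
    {f : X ⟶ Spec (CommRingCat.of k)} {fst : Z ⟶ X} {snd : Z ⟶ Spec (CommRingCat.of K)}
    (sq : IsPullback fst snd f (Spec.map (CommRingCat.ofHom (algebraMap k K)))) {U : X.Opens}
    (hU : IsAffineOpen U) :
    IsPushout (CommRingCat.ofHom (algebraMap k K))
      ((Scheme.ΓSpecIso (CommRingCat.of k)).inv ≫ f.appLE ⊤ U le_top)
      ((Scheme.ΓSpecIso (CommRingCat.of K)).inv ≫ snd.appLE ⊤ (fst ⁻¹ᵁ U) le_top)
      (fst.appLE U (fst ⁻¹ᵁ U) le_rfl) := by
  have hUY : fst ⁻¹ᵁ U = fst ⁻¹ᵁ U ⊓ snd ⁻¹ᵁ ⊤ := by simp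
  have h1 := (isIso_pushoutSection_iff (US := ⊤) (UT := ⊤) (UX := U) sq le_top le_top hUY).1
    (isIso_pushoutSection_of_isAffineOpen sq le_top le_top hUY (isAffineOpen_top _) (isAffineOpen_top _) hU)
  refine IsPushout.of_iso h1.flip (Scheme.ΓSpecIso (CommRingCat.of k)) (Scheme.ΓSpecIso (CommRingCat.of K))
    (Iso.refl _) (Iso.refl _) ?_ ?_ ?_ ?_
  · have h2 : (Spec.map (CommRingCat.ofHom (algebraMap k K))).appLE ⊤ ⊤ le_top =
        (Spec.map (CommRingCat.ofHom (algebraMap k K))).appTop := Scheme.Hom.appLE_eq_app _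
    rw [h2]
    exact Scheme.ΓSpecIso_naturality _
  · simp
  · simp
  · simp

theorem main {k K : Type u} [Field k] [Field K] [Algebra k K] {X Z : Scheme.{u}}
    {f : X ⟶ Spec (CommRingCat.of k)} {fst : Z ⟶ X} {snd : Z ⟶ Spec (CommRingCat.of K)}
    (sq : IsPullback fst snd f (Spec.map (CommRingCat.ofHom (algebraMap k K)))) (F : X.Modules)
    (hF : Coh.IsQCoh F) (y : Z)
    (hy : Curv2.IsWeakAssPoint ((Scheme.Modules.pullback fst).obj F) y) : Curv2.IsWeakAssPoint F (fst y) := by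
  obtain ⟨U, hU, hxU, -⟩ := exists_isAffineOpen_mem_and_subset (U := ⊤) (x := fst y) trivial
  have haff : IsAffineHom fst := MorphismProperty.of_isPullback (P := @IsAffineHom) sq.flip inferInstance
  have hV : IsAffineOpen (fst ⁻¹ᵁ U) := hU.preimage fst
  have hF' := Groth.Agent.FormalA.PullbackQC.isQCoh_pullback fst F hF
  rw [isWeakAssPoint_iff_minimalPrimes hF' hV (x := y) hxU, ← mem_weakAss_iff] at hy
  rw [isWeakAssPoint_iff_minimalPrimes hF hU hxU, ← mem_weakAss_iff]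
  let : Algebra k Γ(X, U) := ((Scheme.ΓSpecIso (CommRingCat.of k)).inv ≫ f.appLE ⊤ U le_top).hom.toAlgebra
  let : Algebra K Γ(Z, fst ⁻¹ᵁ U) :=
    ((Scheme.ΓSpecIso (CommRingCat.of K)).inv ≫ snd.appLE ⊤ (fst ⁻¹ᵁ U) le_top).hom.toAlgebra
  let : Algebra Γ(X, U) Γ(Z, fst ⁻¹ᵁ U) := secAlg fst le_rfl
  let := secModule fst (le_refl (fst ⁻¹ᵁ U)) ((Scheme.Modules.pullback fst).obj F)
  have := isScalarTower_sec fst (le_refl (fst ⁻¹ᵁ U)) ((Scheme.Modules.pullback fst).obj F)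
  let : Algebra k Γ(Z, fst ⁻¹ᵁ U) := ((algebraMap Γ(X, U) Γ(Z, fst ⁻¹ᵁ U)).comp (algebraMap k Γ(X, U))).toAlgebra
  have : IsScalarTower k Γ(X, U) Γ(Z, fst ⁻¹ᵁ U) := .of_algebraMap_eq' rfl
  have hpo := isPushout_sections sq hU
  have : IsScalarTower k K Γ(Z, fst ⁻¹ᵁ U) := .of_algebraMap_eq fun r => (congr($(hpo.w) r)).symm
  have hpush : Algebra.IsPushout k K Γ(X, U) Γ(Z, fst ⁻¹ᵁ U) := CommRingCat.isPushout_iff_isPushout.1 hpo
  have hbc := isBaseChange_pullSec fst (le_refl (fst ⁻¹ᵁ U)) hU hV F hF hF'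
  have h1 := K75.WeakAssField.comap_mem_weakAss_baseChange_field (k := k) (K := K) Γ(Z, fst ⁻¹ᵁ U) Γ(F, U)
    Γ((Scheme.Modules.pullback fst).obj F, fst ⁻¹ᵁ U) _ hbc _ hy
  have h2 : (hV.primeIdealOf ⟨y, hxU⟩).asIdeal.comap (algebraMap Γ(X, U) Γ(Z, fst ⁻¹ᵁ U)) =
      (hU.primeIdealOf ⟨fst y, hxU⟩).asIdeal := by
    rw [← Groth.Agent.Divis.WeakAssPush.comap_primeIdealOf fst hU hV hxU]
    congr 1
    exact congrArg CommRingCat.Hom.hom (Scheme.Hom.appLE_eq_app _)
  rwa [h2] at h1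

end K473.WeakField
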