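import Groth.Agent.SDiv.K473.MeroReg
import Groth.Agent.Divis.WeakAss
import Groth.Agent.Fdesc.StructMod

/-!
# Weakly associated points of the structure sheaf and regular sections

* `exists_isWeakAssPoint_of_ne_zero`: a nonzero function on an affine open has a nonzero germ at some weakly
  associated point of `𝒪_X`;
* `isMinimal_iff`: points without proper generization and minimal primes;
* `isUnit_germ_of_regSub`: a regular section is invertible at the points without proper generization;
* `app_mem_regSub_of_weakAss`: pullback of regular sections when weakly associated points go to such points;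
* `mem_regSub_iff_weakAss`: a section is regular iff its germs at the weakly associated points are units.
-/

set_option autoImplicit false
universe u

open CategoryTheory CategoryTheory.Limits AlgebraicGeometry TopologicalSpace Mero

namespace K473.WeakStr

open K473.MeroReg Groth.Agent.Divis.WeakAss Groth.Agent.Fdesc Groth.Agent.Fdesc.QCohStalk

variable {X Y : Scheme.{u}}

lemma germ_structure_eq_zero {U : X.Opens} {x : X} (hx : x ∈ U) {t : Γ(X, U)}
    (h : X.presheaf.germ U x hx t = 0) :
    (Coh.structureModule X).presheaf.germ U x hx ((StructMod.sectionsEquiv U).symm t) = 0 := by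
  rw [← StructMod.stalkEquiv_germ, h, map_zero]

/-- A nonzero function on an affine open has a nonzero germ at some weakly associated point. -/
theorem exists_isWeakAssPoint_of_ne_zero {U : X.Opens} (hU : IsAffineOpen U) {t : Γ(X, U)} (ht : t ≠ 0) :
    ∃ (x : X) (hx : x ∈ U), Curv2.IsWeakAssPoint (Coh.structureModule X) x ∧ X.presheaf.germ U x hx t ≠ 0 := by
  obtain ⟨x, hx, h1, h2⟩ := Groth.Agent.Divis.WeakAss.exists_isWeakAssPoint_of_ne_zero
    (M := Coh.structureModule X) (StructMod.isQCoh_structureModule X) hU ((StructMod.sectionsEquiv U).symm t)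
    (by simpa using ht)
  exact ⟨x, hx, h1, fun h ↦ h2 (germ_structure_eq_zero hx h)⟩

/-- points without proper generization, on an affine open -/
theorem primeIdealOf_mem_minimalPrimes {U : X.Opens} (hU : IsAffineOpen U) {x : X} (hx : x ∈ U)
    (hgen : ∀ y : X, y ⤳ x → y = x) : (hU.primeIdealOf ⟨x, hx⟩).asIdeal ∈ minimalPrimes Γ(X, U) := by
  refine ⟨⟨(hU.primeIdealOf ⟨x, hx⟩).isPrime, bot_le⟩, fun q ⟨hq, _⟩ hqp ↦ ?_⟩
  obtain ⟨y, hy, hyq⟩ := exists_point hU ⟨q, hq⟩
  have h1 : y ⤳ x := by
    rw [specializes_iff_primeIdealOf_le hU hx hy, hyq]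
    exact hqp
  have := hgen y h1
  subst this
  rw [hyq]

/-- a regular section is invertible at the points without proper generization -/
theorem isUnit_germ_of_regSub {U : X.Opens} {s : Γ(X, U)} (hs : s ∈ regSub X U) {x : X} (hx : x ∈ U)
    (hgen : ∀ y : X, y ⤳ x → y = x) : IsUnit (X.presheaf.germ U x hx s) := by
  obtain ⟨V, hV, hxV, hVU'⟩ := exists_isAffineOpen_mem_and_subset (U := U) (x := x) hx
  have hVU : V ≤ U := hVU'
  have h1 := mem_regSub_iff_forall_affine.mp hs ⟨V, hV⟩ hVU
  have h2 := primeIdealOf_mem_minimalPrimes hV hxV hgen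
  have h3 : X.presheaf.map (homOfLE hVU).op s ∉ (hV.primeIdealOf ⟨x, hxV⟩).asIdeal :=
    fun h ↦ Set.disjoint_left.mp (Ideal.disjoint_nonZeroDivisors_of_mem_minimalPrimes h2) h h1
  have h4 := (X.mem_basicOpen _ x hxV).mp ((mem_basicOpen_iff hV x hxV _).mpr h3)
  rwa [TopCat.Presheaf.germ_res_apply] at h4

/-- a section whose germs at the weakly associated points are units is regular -/
theorem mem_regSub_of_weakAss {U : X.Opens} {s : Γ(X, U)}
    (h : ∀ (x : X) (hx : x ∈ U), Curv2.IsWeakAssPoint (Coh.structureModule X) x → IsUnit (X.presheaf.germ U x hx s)) :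
    s ∈ regSub X U := by
  rw [mem_regSub_iff_forall_affine]
  intro V hV
  rw [mem_nonZeroDivisors_iff_right]
  intro t ht
  by_contra hne
  obtain ⟨x, hx, h1, h2⟩ := exists_isWeakAssPoint_of_ne_zero V.2 hne
  have h3 := congr(X.presheaf.germ V.1 x hx $ht)
  rw [map_mul, map_zero, TopCat.Presheaf.germ_res_apply] at h3
  exact h2 ((h x (hV hx) h1).mul_left_eq_zero.mp h3)

/-- pullback of regular sections when weakly associated points go to points without proper generization -/
theorem app_mem_regSub_of_weakAss (f : X ⟶ Y)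
    (h : ∀ x : X, Curv2.IsWeakAssPoint (Coh.structureModule X) x → ∀ y : Y, y ⤳ f x → y = f x)
    {U : Y.Opens} {s : Γ(Y, U)} (hs : s ∈ regSub Y U) : f.app U s ∈ regSub X (f ⁻¹ᵁ U) := by
  refine mem_regSub_of_weakAss fun x hx hx' ↦ ?_
  rw [← Scheme.Hom.germ_stalkMap_apply f U x hx s]
  exact (isUnit_germ_of_regSub hs hx (h x hx')).map _

end K473.WeakStr
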