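import Groth.Prelude.Def_MeroDiv
import Groth.Prelude.Def_Pic
import Groth.Agent.SDiv.K473.MeroReg
import Groth.Agent.SDiv.K471.MeroSec
import Groth.Agent.Ega4late.H532.GlueStalk
import Groth.Agent.Divis.ColonIdeal

/-!
# The ideal of denominators of a meromorphic section of an invertible module
-/

set_option autoImplicit false
universe u

open CategoryTheory CategoryTheory.Limits AlgebraicGeometry TopologicalSpace Mero

namespace K473.Denom

open Groth.Agent.Divis.CartierBasic Groth.Agent.Divis.ColonIdeal Groth.Agent.Fdesc.LocGen K473.MeroReg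
open K471.MeroSec

variable {X : Scheme.{u}} (L : X.Modules) (s : Γ(merMod L, ⊤))

/-- the stalk of the ideal of denominators -/
def denomStalk (y : X) : Ideal (X.presheaf.stalk y) where
  carrier := {g | ∃ m : L.presheaf.stalk y, g • s.1 ⟨y, Opens.mem_top y⟩ =
    LocalizedModule.mkLinearMap (regStalk X y) _ m}
  zero_mem' := ⟨0, by rw [zero_smul, map_zero]⟩
  add_mem' := by
    rintro f g ⟨m, hm⟩ ⟨n, hn⟩
    exact ⟨m + n, by rw [add_smul, hm, hn, map_add]⟩
  smul_mem' := by
    rintro c f ⟨m, hm⟩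
    exact ⟨c • m, by rw [smul_eq_mul, mul_smul, hm, map_smul]⟩

variable {L s}

theorem mem_denomStalk {y : X} {g : X.presheaf.stalk y} : g ∈ denomStalk L s y ↔
    ∃ m : L.presheaf.stalk y, g • s.1 ⟨y, Opens.mem_top y⟩ =
      LocalizedModule.mkLinearMap (regStalk X y) _ m := Iff.rfl

variable (L s) in
/-- A chart: a generator `e` of `L` and an expression `s = a e / b`. -/
structure Chart where
  V : X.Opens
  hV : IsAffineOpen V
  e : Γ(L, V)
  he : IsGen e
  a : Γ(X, V)
  b : regSub X V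
  eq : ∀ y : V, s.1 ⟨y.1, Opens.mem_top y.1⟩ =
    LocalizedModule.mk (L.presheaf.germ V y.1 y.2 (a • e)) (regGerm y b)

theorem exists_chart (hL : PicF.IsInvertible L) (x : X) (W : X.Opens) (hW : x ∈ W) :
    ∃ c : Chart L s, x ∈ c.V ∧ c.V ≤ W := by
  obtain ⟨U, e, hxU, he⟩ := (isInvertible_iff L).mp hL x
  obtain ⟨U', hxU', i, m, b, hmb⟩ := s.2 ⟨x, Opens.mem_top x⟩
  obtain ⟨V, hV, hxV, hVs⟩ := exists_isAffineOpen_mem_and_subset (U := U ⊓ U' ⊓ W) (x := x) ⟨⟨hxU, hxU'⟩, hW⟩
  have hVU : V ≤ U := fun y hy => (hVs hy).1.1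
  have hVU' : V ≤ U' := fun y hy => (hVs hy).1.2
  have hVW : V ≤ W := fun y hy => (hVs hy).2
  obtain ⟨a, ha⟩ := (he.res hVU).exists_eq (res L hVU' m)
  refine ⟨⟨V, hV, res L hVU e, he.res hVU, a, ⟨ores hVU' b.1, regSub_res (homOfLE hVU') b.2⟩, fun y => ?_⟩,
    hxV, hVW⟩
  refine (hmb ⟨y.1, hVU' y.2⟩).trans ?_
  rw [← ha]
  refine mk_congr ?_ ?_
  · rw [germ_mres]
  · exact (germ_res hVU' y.1 y.2 b.1).symm

theorem mkLinearMap_injective (hL : PicF.IsInvertible L) (y : X) :
    Function.Injective (LocalizedModule.mkLinearMap (regStalk X y) (L.presheaf.stalk y)) := by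
  rw [injective_iff_map_eq_zero]
  intro m hm
  rw [LocalizedModule.mkLinearMap_apply, ← LocalizedModule.zero_mk 1, LocalizedModule.mk_eq] at hm
  obtain ⟨c, hc⟩ := hm
  obtain ⟨U, e, hyU, he⟩ := (isInvertible_iff L).mp hL y
  obtain ⟨r, rfl⟩ := IsGen.exists_germ_eq he y hyU m
  simp only [one_smul, smul_zero, Submonoid.smul_def] at hc
  rw [smul_smul] at hc
  have h1 := IsGen.germ_smul_eq_zero he y hyU hc
  have h2 : r = 0 := (mem_nonZeroDivisors_iff.mp (regStalk_le_nonZeroDivisors y c.2)).1 _ h1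
  rw [h2, zero_smul]

theorem Chart.mem_iff (c : Chart L s) {y : X} (hy : y ∈ c.V) {g : X.presheaf.stalk y} :
    g ∈ denomStalk L s y ↔
      g * X.presheaf.germ c.V y hy c.a ∈ Ideal.span {X.presheaf.germ c.V y hy c.b.1} := by
  rw [mem_denomStalk, Ideal.mem_span_singleton']
  have h0 : g • s.1 ⟨y, Opens.mem_top y⟩ = LocalizedModule.mk
      ((g * X.presheaf.germ c.V y hy c.a) • L.presheaf.germ c.V y hy c.e) (regGerm ⟨y, hy⟩ c.b) := by
    rw [c.eq ⟨y, hy⟩, LocalizedModule.smul'_mk, Mero.germ_smul, smul_smul]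
  constructor
  · rintro ⟨m, hm⟩
    obtain ⟨r, rfl⟩ := IsGen.exists_germ_eq c.he y hy m
    refine ⟨r, ?_⟩
    rw [h0, LocalizedModule.mkLinearMap_apply, LocalizedModule.mk_eq] at hm
    obtain ⟨d, hd⟩ := hm
    simp only [one_smul, Submonoid.smul_def] at hd
    rw [smul_smul, smul_smul, smul_smul, ← sub_eq_zero, ← sub_smul] at hd
    have h1 := IsGen.germ_smul_eq_zero c.he y hy hd
    have h2 : (g * X.presheaf.germ c.V y hy c.a) - r * X.presheaf.germ c.V y hy c.b.1 = 0 := by
      refine (mem_nonZeroDivisors_iff.mp (regStalk_le_nonZeroDivisors y d.2)).1 _ ?_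
      rw [← h1]
      ring
    exact (sub_eq_zero.mp h2).symm
  · rintro ⟨r, hr⟩
    refine ⟨r • L.presheaf.germ c.V y hy c.e, ?_⟩
    rw [h0, LocalizedModule.mkLinearMap_apply, LocalizedModule.mk_eq]
    refine ⟨1, ?_⟩
    simp only [one_smul, Submonoid.smul_def]
    rw [smul_smul, ← hr]
    congr 1
    change _ = X.presheaf.germ c.V y hy c.b.1 * r
    ring

theorem Chart.denomStalk_eq (c : Chart L s) {y : X} (hy : y ∈ c.V) :
    denomStalk L s y = (colon (Ideal.span {c.b.1}) (Ideal.span {c.a})).map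
      (X.presheaf.germ c.V y hy).hom := by
  let : Algebra Γ(X, c.V) (X.presheaf.stalk y) :=
    TopCat.Presheaf.algebra_section_stalk X.presheaf ⟨y, hy⟩
  have hloc := c.hV.isLocalization_stalk ⟨y, hy⟩
  refine Eq.trans ?_ (map_colon (c.hV.primeIdealOf ⟨y, hy⟩).asIdeal.primeCompl (X.presheaf.stalk y)
    (Ideal.span {c.b.1}) (Ideal.span {c.a}) ⟨{c.a}, by simp⟩).symm
  rw [Ideal.map_span, Ideal.map_span, Set.image_singleton, Set.image_singleton]
  ext g
  rw [c.mem_iff hy, mem_colon]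
  constructor
  · intro h k hk
    obtain ⟨r, rfl⟩ := Ideal.mem_span_singleton'.mp hk
    have := Ideal.mul_mem_left _ r h
    rw [← mul_assoc, mul_comm r g, mul_assoc] at this
    exact this
  · intro h
    exact h _ (Ideal.mem_span_singleton_self _)

theorem exists_sheaf (hL : PicF.IsInvertible L) (s : Γ(merMod L, ⊤)) :
    ∃ I : X.IdealSheafData, ∀ y, stalkIdeal I y = denomStalk L s y := by
  apply Groth.Agent.Ega4late.H532.GlueStalk.exists_idealSheaf_of_local
  intro y
  obtain ⟨c, hc, -⟩ := exists_chart (s := s) hL y ⊤ trivial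
  exact ⟨c.V, hc, _, fun y' hy' => c.denomStalk_eq hy'⟩

theorem section_ext' {U : X.Opens} {m n : Γ(L, U)}
    (h : ∀ (y : X) (hy : y ∈ U), L.presheaf.germ U y hy m = L.presheaf.germ U y hy n) : m = n :=
  TopCat.Presheaf.section_ext ⟨L.presheaf, L.isSheaf⟩ U m n h

/-- membership in the ideal of denominators is local (and can be checked on stalks) -/
theorem mem_denomIdeal_iff (hL : PicF.IsInvertible L) {s : Γ(merMod L, ⊤)} {U : X.Opens} {f : Γ(X, U)} :
    f ∈ denomIdeal L s U ↔ ∀ (y : X) (hy : y ∈ U), X.presheaf.germ U y hy f ∈ denomStalk L s y := by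
  constructor
  · rintro ⟨m, hm⟩ y hy
    exact ⟨L.presheaf.germ U y hy m, hm ⟨y, hy⟩⟩
  · intro h
    -- local solutions
    have key : ∀ x : U, ∃ (W : X.Opens) (_ : x.1 ∈ W) (hWU : W ≤ U) (m : Γ(L, W)), ∀ (y : X) (hy : y ∈ W),
        X.presheaf.germ U y (hWU hy) f • s.1 ⟨y, Opens.mem_top y⟩ =
          LocalizedModule.mkLinearMap (regStalk X y) _ (L.presheaf.germ W y hy m) := by
      intro x
      obtain ⟨c, hxc, hcU⟩ := exists_chart (s := s) hL x.1 U x.2
      have h1 := (c.mem_iff hxc).mp (h x.1 x.2)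
      obtain ⟨r, hr⟩ := Ideal.mem_span_singleton'.mp h1
      obtain ⟨V', hxV', ρ, rfl⟩ := X.presheaf.exists_germ_eq r
      have hxW : x.1 ∈ c.V ⊓ V' := ⟨hxc, hxV'⟩
      have h2 : X.presheaf.germ (c.V ⊓ V') x.1 hxW (ores inf_le_right ρ * ores inf_le_left c.b.1) =
          X.presheaf.germ (c.V ⊓ V') x.1 hxW (ores (inf_le_left.trans hcU) f * ores inf_le_left c.a) := by
        rw [map_mul, map_mul, germ_res, germ_res, germ_res, germ_res]
        exact hr
      obtain ⟨W, hxW', i1, i2, h3⟩ := X.presheaf.germ_eq x.1 hxW hxW _ _ h2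
      refine ⟨W, hxW', i1.le.trans (inf_le_left.trans hcU),
        ores (i1.le.trans inf_le_right) ρ • res L (i1.le.trans inf_le_left) c.e, fun y hy => ?_⟩
      have hyW : y ∈ c.V ⊓ V' := i1.le hy
      have h4 := congr(X.presheaf.germ W y hy $h3)
      rw [TopCat.Presheaf.germ_res_apply, TopCat.Presheaf.germ_res_apply, map_mul, map_mul, germ_res, germ_res,
        germ_res, germ_res] at h4
      rw [c.eq ⟨y, hyW.1⟩, LocalizedModule.smul'_mk, LocalizedModule.mkLinearMap_apply, LocalizedModule.mk_eq]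
      refine ⟨1, ?_⟩
      simp only [one_smul, Submonoid.smul_def]
      rw [Mero.germ_smul, Mero.germ_smul, germ_res, germ_mres, smul_smul, ← h4]
      change _ = X.presheaf.germ c.V y hyW.1 c.b.1 • _
      rw [smul_smul]
      congr 1
      ring
    choose W hxW hWU m hm using key
    have hcov : U ≤ ⨆ x : U, W x := fun y hy => Opens.mem_iSup.mpr ⟨⟨y, hy⟩, hxW ⟨y, hy⟩⟩
    obtain ⟨t, ht⟩ := res_glue L W hWU hcov m (fun i j => by
      refine section_ext' fun y hy => mkLinearMap_injective hL y ?_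
      rw [germ_mres, germ_mres, ← hm i y hy.1, ← hm j y hy.2])
    refine ⟨t, fun y => ?_⟩
    have := hm y y.1 (hxW y)
    rw [← ht y, germ_mres] at this
    exact this

theorem ideal_eq (hL : PicF.IsInvertible L) {s : Γ(merMod L, ⊤)} {I : X.IdealSheafData}
    (hI : ∀ y, stalkIdeal I y = denomStalk L s y) (U : X.affineOpens) : I.ideal U = denomIdeal L s U.1 := by
  ext f
  rw [mem_denomIdeal_iff hL, U.2.mem_ideal_iff]
  refine forall_congr' fun y => forall_congr' fun hy => ?_
  rw [← hI y, stalkIdeal_eq I U hy]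

theorem interior_support (hL : PicF.IsInvertible L) {s : Γ(merMod L, ⊤)} {I : X.IdealSheafData}
    (hI : ∀ y, stalkIdeal I y = denomStalk L s y) : interior (I.support : Set X) = ∅ := by
  rw [Set.eq_empty_iff_forall_notMem]
  intro x hx
  obtain ⟨c, hxc, hcU⟩ := exists_chart (s := s) hL x ⟨_, isOpen_interior⟩ hx
  have h1 : ∀ (y : X) (hy : y ∈ c.V), ¬ IsUnit (X.presheaf.germ c.V y hy c.b.1) := by
    intro y hy hu
    have h2 : y ∈ I.support := interior_subset (hcU hy)
    rw [mem_support_iff_stalkIdeal_ne_top, hI y] at h2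
    refine h2 (Ideal.eq_top_of_isUnit_mem _ ?_ hu)
    rw [c.mem_iff hy]
    exact Ideal.mul_mem_right _ _ (Ideal.mem_span_singleton_self _)
  have h3 : X.basicOpen c.b.1 = ⊥ := by
    ext y
    constructor
    · intro hy
      exact absurd ((X.mem_basicOpen _ y (X.basicOpen_le _ hy)).mp hy) (h1 y _)
    · intro hy
      exact hy.elim
  obtain ⟨n, hn⟩ := (X.isNilpotent_iff_basicOpen_eq_bot_of_isCompact c.hV.isCompact c.b.1).mpr h3
  have h4 := congr(X.presheaf.germ c.V x hxc $hn)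
  rw [map_pow, map_zero] at h4
  have h5 := pow_mem (mem_regSub_iff.mp c.b.2 x hxc) n
  rw [h4] at h5
  exact zero_notMem_nonZeroDivisors h5

end K473.Denom
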