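import Groth.Agent.SDiv.K473.WeakStr
import Groth.Agent.SDiv.K471.MeroAffine
import Groth.Agent.SDiv.K471.MeroSec
import Groth.Agent.CycB.LocQuot

/-!
# `K_X` when the weakly associated points are generic and locally finitely many

* `regStalk_eq`: the germs of regular sections are all nonzerodivisors;
* `isLocalization`: over an affine open, `K_X(U)` is the total ring of fractions.
-/

set_option autoImplicit false
universe u

open CategoryTheory CategoryTheory.Limits AlgebraicGeometry TopologicalSpace Mero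

namespace K473.MeroGen

open K473.MeroReg K473.WeakStr K471.MeroBasic K471.MeroAffine
open Groth.Agent.Divis.WeakAss Groth.Agent.Fdesc Groth.Agent.Fdesc.QCohStalk Groth.Agent.CycB.LocQuot

variable {X : Scheme.{u}}
  (hgen : ∀ x : X, Curv2.IsWeakAssPoint (Coh.structureModule X) x → ∀ y : X, y ⤳ x → y = x)
  (hfin : ∀ U : X.Opens, IsAffineOpen U → {t : X | t ∈ U ∧ ∀ y : X, y ⤳ t → y = t}.Finite)

include hgen in
/-- a section is regular iff it is invertible at the generic points -/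
theorem mem_regSub_iff_generic {U : X.Opens} {b : Γ(X, U)} :
    b ∈ regSub X U ↔ ∀ (t : X) (ht : t ∈ U), (∀ y : X, y ⤳ t → y = t) → IsUnit (X.presheaf.germ U t ht b) :=
  ⟨fun h _ ht ht' ↦ isUnit_germ_of_regSub h ht ht', fun h ↦ mem_regSub_of_weakAss fun x hx hx' ↦ h x hx (hgen x hx')⟩

include hgen hfin in
theorem regStalk_eq (x : X) : regStalk X x = nonZeroDivisors (X.presheaf.stalk x) := by
  refine le_antisymm (regStalk_le_nonZeroDivisors x) fun g hg ↦ ?_
  obtain ⟨W, hxW, b', rfl⟩ := X.presheaf.exists_germ_eq g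
  obtain ⟨U, hU, hxU, hUW'⟩ := exists_isAffineOpen_mem_and_subset (U := W) (x := x) hxW
  have hUW : U ≤ W := hUW'
  let b : Γ(X, U) := X.presheaf.map (homOfLE hUW).op b'
  have hb : X.presheaf.germ U x hxU b = X.presheaf.germ W x hxW b' :=
    TopCat.Presheaf.germ_res_apply X.presheaf (homOfLE hUW) x hxU b'
  let F : Set X := {t : X | ∃ ht : t ∈ U, (∀ y : X, y ⤳ t → y = t) ∧ ¬ IsUnit (X.presheaf.germ U t ht b)}
  have hF : F.Finite := (hfin U hU).subset fun t ⟨h1, h2, _⟩ ↦ ⟨h1, h2⟩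
  have hcl : IsClosed (⋃ t ∈ F, closure {t}) := hF.isClosed_biUnion fun t _ ↦ isClosed_closure
  let V : X.Opens := U ⊓ ⟨(⋃ t ∈ F, closure {t})ᶜ, hcl.isOpen_compl⟩
  have hxV : x ∈ V := by
    refine ⟨hxU, fun h ↦ ?_⟩
    simp only [Set.mem_iUnion, exists_prop] at h
    obtain ⟨t, ⟨htU, htg, htu⟩, hxt⟩ := h
    have hsp : t ⤳ x := specializes_iff_mem_closure.mpr hxt
    obtain ⟨n, hn⟩ := K471.MeroSec.exists_pow_eq_zero htg htu
    -- the germ at `t` is a nonzerodivisor
    have h1 : X.presheaf.germ U t htU b ∈ nonZeroDivisors (X.presheaf.stalk t) := by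
      have h2 := isLocalization_stalkSpecializes hsp
      let := (X.presheaf.stalkSpecializes hsp).hom.toAlgebra
      have h3 := IsLocalization.map_nonZeroDivisors_le
        (RingHom.ker (Cyc.specMap x t hsp)).primeCompl (X.presheaf.stalk t)
      have h4 : X.presheaf.germ U t htU b = algebraMap (X.presheaf.stalk x) (X.presheaf.stalk t)
          (X.presheaf.germ U x hxU b) := by
        change _ = (X.presheaf.stalkSpecializes hsp) _
        rw [TopCat.Presheaf.germ_stalkSpecializes_apply]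
      rw [h4]
      exact h3 ⟨_, by rw [hb]; exact hg, rfl⟩
    have h5 := pow_mem h1 n
    rw [hn] at h5
    exact zero_notMem_nonZeroDivisors h5
  have hVU : V ≤ U := inf_le_left
  refine ⟨V, hxV, X.presheaf.map (homOfLE hVU).op b, ?_, ?_⟩
  · rw [mem_regSub_iff_generic hgen]
    intro t ht htg
    rw [TopCat.Presheaf.germ_res_apply]
    by_contra hu
    exact ht.2 (Set.mem_biUnion (show t ∈ F from ⟨ht.1, htg, hu⟩) (subset_closure rfl))
  · rw [TopCat.Presheaf.germ_res_apply, hb]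

/-- At a generic point a section of `K_X` over an affine open has a denominator which is invertible at the point. -/
theorem exists_denominator_at {U : X.Opens} (hU : IsAffineOpen U) (f : Γ(kmod X, U)) {t : X} (ht : t ∈ U)
    (htg : ∀ y : X, y ⤳ t → y = t) :
    ∃ a b : Γ(X, U), t ∈ X.basicOpen b ∧ toK X U b * f = toK X U a := by
  obtain ⟨V, hVU, htV, hV, a, b, hb, hfab⟩ := exists_frac f t ht
  have hbu := isUnit_germ_of_regSub hb htV htg
  have htb : t ∈ V ⊓ X.basicOpen b := ⟨htV, (X.mem_basicOpen b t htV).mpr hbu⟩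
  obtain ⟨g, hgV, htg'⟩ := hU.exists_basicOpen_le ⟨t, htb⟩ ht
  have hgU : X.basicOpen g ≤ U := X.basicOpen_le g
  have hgV' : X.basicOpen g ≤ V := hgV.trans inf_le_left
  have hgb : X.basicOpen g ≤ X.basicOpen b := hgV.trans inf_le_right
  have hub : IsUnit (X.presheaf.map (homOfLE hgV').op b) := by
    have h1 : IsUnit (X.presheaf.map (homOfLE (X.basicOpen_le b)).op b) :=
      RingedSpace.isUnit_res_basicOpen _ b
    have h2 := h1.map (X.presheaf.map (homOfLE hgb).op).hom
    rw [← CommRingCat.comp_apply, ← Functor.map_comp] at h2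
    exact h2
  obtain ⟨v, hv⟩ := hub.exists_left_inv
  let c : Γ(X, X.basicOpen g) := v * X.presheaf.map (homOfLE hgV').op a
  have hc : (kmod X).presheaf.map (homOfLE hgU).op f = toK X _ c := by
    have h2 := congrArg ((kmod X).presheaf.map (homOfLE hgV').op) hfab
    rw [map_mul', map_toK, map_toK, map_comp'] at h2
    change _ = toK X _ (v * X.presheaf.map (homOfLE hgV').op a)
    rw [map_mul, ← h2, ← mul_assoc, ← map_mul, hv, map_one, one_mul]
  have hloc := hU.isLocalization_basicOpen g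
  obtain ⟨⟨α, ⟨_, l, rfl⟩⟩, hα⟩ := IsLocalization.surj (Submonoid.powers g) c
  change c * X.presheaf.map (homOfLE hgU).op (g ^ l) = X.presheaf.map (homOfLE hgU).op α at hα
  have h1 : (kmod X).presheaf.map (homOfLE hgU).op (toK X U (g ^ l) * f - toK X U α) = 0 := by
    rw [map_sub, map_mul', map_toK, map_toK, hc, ← hα, ← map_mul, mul_comm]
    exact sub_self _
  obtain ⟨n, hn⟩ := exists_pow_mul_eq_zero hU.isCompact g _ h1
  refine ⟨g ^ n * α, g ^ (n + l), ?_, ?_⟩
  · rw [X.mem_basicOpen _ t ht, map_pow]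
    exact ((X.mem_basicOpen g t ht).mp htg').pow _
  · rw [mul_sub, sub_eq_zero] at hn
    rw [pow_add, map_mul, map_mul, map_pow, mul_assoc, hn]

include hgen hfin in
/-- Every section of `K_X` over an affine open is a fraction. -/
theorem exists_mul_eq_toK {U : X.Opens} (hU : IsAffineOpen U) (f : Γ(kmod X, U)) :
    ∃ a b : Γ(X, U), b ∈ nonZeroDivisors Γ(X, U) ∧ toK X U b * f = toK X U a := by
  classical
  let I : Ideal Γ(X, U) :=
    { carrier := {b | ∃ a : Γ(X, U), toK X U b * f = toK X U a}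
      zero_mem' := ⟨0, by rw [map_zero, zero_mul]⟩
      add_mem' := by
        rintro b b' ⟨a, ha⟩ ⟨a', ha'⟩
        exact ⟨a + a', by rw [map_add, add_mul, ha, ha', map_add]⟩
      smul_mem' := by
        rintro c b ⟨a, ha⟩
        exact ⟨c * a, by rw [smul_eq_mul, map_mul, mul_assoc, ha, map_mul]⟩ }
  suffices h : ∃ b ∈ I, b ∈ nonZeroDivisors Γ(X, U) by
    obtain ⟨b, ⟨a, ha⟩, hb⟩ := h
    exact ⟨a, b, hb, ha⟩
  let F : Set (Ideal Γ(X, U)) :=
    {P | ∃ (t : X) (ht : t ∈ U), (∀ y : X, y ⤳ t → y = t) ∧ P = (hU.primeIdealOf ⟨t, ht⟩).asIdeal}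
  have hF : F.Finite := by
    refine ((hfin U hU).image fun t ↦ if ht : t ∈ U then (hU.primeIdealOf ⟨t, ht⟩).asIdeal else ⊥).subset ?_
    rintro P ⟨t, ht, htg, rfl⟩
    exact ⟨t, ⟨ht, htg⟩, by simp [ht]⟩
  by_contra hcon
  push Not at hcon
  have hsub : (I : Set Γ(X, U)) ⊆ ⋃ P ∈ F, (P : Set Γ(X, U)) := by
    intro b hb
    have h1 := hcon b hb
    rw [← mem_regSub_affine_iff hU, mem_regSub_iff_generic hgen] at h1
    push Not at h1
    obtain ⟨t, ht, htg, htu⟩ := h1
    refine Set.mem_biUnion (show (hU.primeIdealOf ⟨t, ht⟩).asIdeal ∈ F from ⟨t, ht, htg, rfl⟩) ?_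
    by_contra h2
    exact htu ((X.mem_basicOpen b t ht).mp ((mem_basicOpen_iff hU t ht b).mpr h2))
  obtain ⟨P, ⟨t, ht, htg, rfl⟩, hle⟩ := (Ideal.subset_union_prime_finite hF ⊥ ⊥
    (fun P hP _ _ ↦ by
      obtain ⟨t, ht, htg, rfl⟩ := hP
      exact (hU.primeIdealOf ⟨t, ht⟩).isPrime)).mp hsub
  obtain ⟨a, b, htb, hb⟩ := exists_denominator_at hU f ht htg
  exact (mem_basicOpen_iff hU t ht b).mp htb (hle ⟨a, hb⟩)

include hgen hfin in
/-- Over an affine open, `K_X(U)` is the total ring of fractions. -/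
theorem isLocalization {U : X.Opens} (hU : IsAffineOpen U) :
    @IsLocalization Γ(X, U) _ (nonZeroDivisors Γ(X, U)) Γ(kmod X, U) _ (toK X U).toAlgebra := by
  let := (toK X U).toAlgebra
  refine ⟨fun b ↦ isUnit_toK ((mem_regSub_affine_iff hU).mpr b.2), fun f ↦ ?_, fun {a b} h ↦ ?_⟩
  · obtain ⟨a, b, hb, h⟩ := exists_mul_eq_toK hgen hfin hU f
    exact ⟨(a, ⟨b, hb⟩), by rw [mul_comm]; exact h⟩
  · exact ⟨1, by rw [toK_injective U h]⟩

end K473.MeroGen
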