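import Groth.Agent.Divis.EffIntegral
import Groth.Agent.Divis.ColonIdeal

/-!
# Effective Cartier divisors inside a closed subscheme, up to codimension two

`X` Noetherian, `𝓓 i` integral effective Cartier divisors, `𝓩` an ideal sheaf whose support is contained in the union of
the supports of the `𝓓 i` and a closed set of codimension at least two. Then `𝓩` is contained in a product of the `𝓓 i`
with equality at all points of codimension at most one.
-/

set_option autoImplicit false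
universe u

open CategoryTheory CategoryTheory.Limits AlgebraicGeometry TopologicalSpace

namespace K473.DivInClosed

open Groth.Agent.Divis.CartierBasic Groth.Agent.Divis.CartierStalk Groth.Agent.CycB.LocQuot
  Groth.Agent.Divis.StalkPrime Groth.Agent.Divis.EffIntegral Groth.Agent.Divis.ColonIdeal

variable {X : Scheme.{u}}

lemma ringKrullDim_le_of_specializes {x y : X} (h : y ⤳ x) :
    ringKrullDim (X.presheaf.stalk y) ≤ ringKrullDim (X.presheaf.stalk x) := by
  have h1 := height_eq (primeOf h)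
  rw [ptOf_primeOf] at h1
  rw [h1]
  exact Ideal.height_le_ringKrullDim_of_ne_top (primeOf h).isPrime.ne_top

/-- Every point of a closed set is a specialization of a maximal point. -/
lemma exists_maximal_of_isClosed {Z' : Set X} (hZ' : IsClosed Z') {z : X} (hz : z ∈ Z') :
    ∃ ξ ∈ Z', ξ ⤳ z ∧ ∀ y ∈ Z', y ⤳ ξ → y = ξ := by
  have h0 : ((Scheme.IdealSheafData.vanishingIdeal ⟨Z', hZ'⟩).support : Set X) = Z' :=
    Scheme.IdealSheafData.coe_support_vanishingIdeal _
  obtain ⟨ξ, h1, h2, h3⟩ := exists_generic (Scheme.IdealSheafData.vanishingIdeal ⟨Z', hZ'⟩) (x := z)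
    (by rw [← SetLike.mem_coe, h0]; exact hz)
  rw [← SetLike.mem_coe, h0] at h1
  rw [h0] at h3
  exact ⟨ξ, h1, h2, h3⟩

/-- a point of an effective Cartier divisor is not a point of codimension zero -/
lemma notMem_support_of_dim_eq_zero {D : X.IdealSheafData} (hD : BlowUp.IsEffCartierIdeal D) {η : X}
    (h0 : (IsLocalRing.maximalIdeal (X.presheaf.stalk η)).height = 0) : η ∉ D.support := by
  intro h
  obtain ⟨g, hg, hs⟩ := exists_stalkIdeal_eq_span hD η
  have h1 := (mem_support_iff_stalkIdeal_le D η).1 h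
  rw [Ideal.height_eq_zero_iff] at h0
  refine Set.disjoint_left.1 (Ideal.disjoint_nonZeroDivisors_of_mem_minimalPrimes h0) ?_ hg
  apply h1
  rw [hs]
  exact Ideal.mem_span_singleton_self g

theorem key [IsNoetherian X] {I : Type u} (𝓓 : I → X.IdealSheafData)
    (hD : ∀ i, BlowUp.IsEffCartierIdeal (𝓓 i)) (hDint : ∀ i, IsIntegral (𝓓 i).subscheme)
    (Z' : Set X) (hZ' : ∀ z ∈ Z', (2 : WithBot ℕ∞) ≤ ringKrullDim (X.presheaf.stalk z)) (𝓩 : X.IdealSheafData) :
    ((𝓩.support : Set X) ⊆ Z' ∪ ⋃ i, ((𝓓 i).support : Set X)) →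
    ∃ a : I →₀ ℕ, 𝓩 ≤ a.prod (fun i n => 𝓓 i ^ n) ∧
      ∀ x : X, ringKrullDim (X.presheaf.stalk x) ≤ 1 → stalkIdeal 𝓩 x = stalkIdeal (a.prod (fun i n => 𝓓 i ^ n)) x := by
  have : WellFoundedGT X.IdealSheafData := wellFoundedGT
  induction 𝓩 using WellFoundedGT.induction with
  | ind 𝓩 ih =>
  intro hcover
  by_cases h : ∃ i, (𝓓 i).support ≤ 𝓩.support
  · obtain ⟨i, hi⟩ := h
    have := hDint i
    have hle : 𝓩 ≤ 𝓓 i := le_of_support_le hi
    have hFG : ∀ U, ((𝓓 i).ideal U).FG := fun U ↦ by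
      have := IsLocallyNoetherian.component_noetherian (X := X) U
      exact (isNoetherianRing_iff_ideal_fg _).mp inferInstance _
    have hmul : 𝓓 i * colonSheaf 𝓩 (𝓓 i) hFG = 𝓩 := mul_colonSheaf hFG (hD i) hle
    have hle' : 𝓩 ≤ colonSheaf 𝓩 (𝓓 i) hFG := by
      intro U
      rw [colonSheaf_ideal]
      intro a ha
      rw [mem_colon]
      intro k _
      exact Ideal.mul_mem_right _ _ ha
    have hne : 𝓩 ≠ colonSheaf 𝓩 (𝓓 i) hFG := by
      intro heq
      rw [← heq] at hmul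
      let ξ : X := (𝓓 i).subschemeι (genericPoint (𝓓 i).subscheme)
      have hξ : ξ ∈ (𝓓 i).support := subschemeι_mem_support _ _
      have h1 : stalkIdeal 𝓩 ξ = ⊥ := by
        have h2 := congr_arg (fun J ↦ stalkIdeal J ξ) hmul
        simp only [stalkIdeal_mul] at h2
        refine Submodule.eq_bot_of_le_smul_of_le_jacobson_bot (stalkIdeal (𝓓 i) ξ) (stalkIdeal 𝓩 ξ)
          ((isNoetherianRing_iff_ideal_fg _).mp inferInstance _) h2.ge ?_
        rw [IsLocalRing.jacobson_eq_maximalIdeal _ bot_ne_top]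
        exact (mem_support_iff_stalkIdeal_le _ _).1 hξ
      obtain ⟨q, hq⟩ := Ideal.nonempty_minimalPrimes (I := (⊥ : Ideal (X.presheaf.stalk ξ))) bot_ne_top
      have hqp : q.IsPrime := hq.1.1
      let η : X := ptOf ⟨q, hqp⟩
      have hηZ : η ∈ 𝓩.support := by
        change X.fromSpecStalk ξ _ ∈ _
        rw [fromSpecStalk_mem_support_iff, h1]
        exact bot_le
      have hη0 : ringKrullDim (X.presheaf.stalk η) = 0 := by
        rw [height_eq, Ideal.height_eq_zero_iff.mpr hq]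
        rfl
      rcases hcover hηZ with h2 | h2
      · have h3 := hZ' η h2
        rw [hη0] at h3
        exact absurd h3 (by decide)
      · obtain ⟨j, hj⟩ := Set.mem_iUnion.mp h2
        refine notMem_support_of_dim_eq_zero (hD j) (η := η) ?_ hj
        have h4 := IsLocalRing.maximalIdeal_height_eq_ringKrullDim (R := X.presheaf.stalk η)
        rw [hη0] at h4
        exact_mod_cast h4
    obtain ⟨a', h1, h2⟩ := ih _ (lt_of_le_of_ne hle' hne)
      (fun _ hx ↦ hcover (Scheme.IdealSheafData.support_antitone hle' hx))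
    have hprod : (a' + Finsupp.single i 1).prod (fun i n => 𝓓 i ^ n) = a'.prod (fun i n => 𝓓 i ^ n) * 𝓓 i := by
      rw [Finsupp.prod_add_index' (by simp) (by intro a b c; rw [pow_add]),
        Finsupp.prod_single_index (by simp), pow_one]
    refine ⟨a' + Finsupp.single i 1, ?_, fun x hx ↦ ?_⟩
    · rw [hprod, mul_comm]
      calc 𝓩 = 𝓓 i * colonSheaf 𝓩 (𝓓 i) hFG := hmul.symm
        _ ≤ _ := mul_le_mul_right h1 _
    · rw [hprod, stalkIdeal_mul, ← h2 x hx, ← stalkIdeal_mul, mul_comm, hmul]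
  · push Not at h
    refine ⟨0, ?_, fun x hx ↦ ?_⟩
    · rw [Finsupp.prod_zero_index]
      exact le_top
    · rw [Finsupp.prod_zero_index]
      have h0 : stalkIdeal (1 : X.IdealSheafData) x = ⊤ := stalkIdeal_top x
      rw [h0, ← notMem_support_iff_stalkIdeal_eq_top]
      intro hxZ
      rcases hcover hxZ with h2 | h2
      · have h3 := (hZ' x h2).trans hx
        exact absurd h3 (by decide)
      · obtain ⟨j, hj⟩ := Set.mem_iUnion.mp h2
        have := hDint j
        have hp := isPrime_stalkIdeal (𝓓 j) hj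
        obtain ⟨g, hg, hs⟩ := exists_stalkIdeal_eq_span (hD j) x
        have h4 := eq_maximalIdeal_of_dim_le_one hx (stalkIdeal (𝓓 j) x) g hg
          (by rw [hs]; exact Ideal.mem_span_singleton_self g)
        have h5 := ptOf_stalkIdeal (𝓓 j) hj
        have h6 : (⟨stalkIdeal (𝓓 j) x, hp⟩ : PrimeSpectrum (X.presheaf.stalk x)) =
            primeOf (specializes_refl x) := by
          rw [primeOf_refl]
          exact PrimeSpectrum.ext h4
        rw [h6, ptOf_primeOf] at h5
        exact h j (support_le_of_mem (by rw [← h5]; exact hxZ))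

/-- the locus where a finite type ideal `K` is contained in `J` -/
lemma notMem_support_colonSheaf_iff (J K : X.IdealSheafData) (hK : ∀ U, (K.ideal U).FG) (x : X) :
    x ∉ (colonSheaf J K hK).support ↔ stalkIdeal K x ≤ stalkIdeal J x := by
  rw [notMem_support_iff_stalkIdeal_eq_top]
  obtain ⟨U, hxU⟩ := exists_affine x
  let := X.presheaf.algebra_section_stalk (⟨x, hxU⟩ : U.1)
  have := U.2.isLocalization_stalk ⟨x, hxU⟩
  have h1 : (colon (J.ideal U) (K.ideal U)).map (algebraMap Γ(X, U.1) (X.presheaf.stalk x)) = _ :=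
    map_colon (U.2.primeIdealOf ⟨x, hxU⟩).asIdeal.primeCompl (X.presheaf.stalk x) (J.ideal U) (K.ideal U) (hK U)
  rw [stalkIdeal_eq _ U hxU, stalkIdeal_eq _ U hxU, stalkIdeal_eq _ U hxU, colonSheaf_ideal]
  change Ideal.map (algebraMap Γ(X, U.1) (X.presheaf.stalk x)) _ = ⊤ ↔ _
  rw [h1, Ideal.eq_top_iff_one, mem_colon]
  simp only [one_mul]
  rfl

lemma two_le_of_not_le_one {d : WithBot ℕ∞} (h : ¬ d ≤ 1) : 2 ≤ d := by
  rw [not_le] at h
  induction d using WithBot.recBotCoe with
  | bot => exact absurd h (by simp)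
  | coe n =>
    have h1 : (1 : ℕ∞) < n := by exact_mod_cast h
    have h2 : (1 : ℕ∞) + 1 ≤ n := Order.add_one_le_of_lt h1
    rw [one_add_one_eq_two] at h2
    exact WithBot.coe_le_coe.mpr h2

theorem main [IsNoetherian X] (𝓩 : X.IdealSheafData)
    {I : Type u} (𝓓 : I → X.IdealSheafData) (hD : ∀ i, BlowUp.IsEffCartierIdeal (𝓓 i))
    (hDint : ∀ i, IsIntegral (𝓓 i).subscheme)
    (Z' : Set X) (hZ' : IsClosed Z')
    (hcodim : ∀ z ∈ Z', (∀ y ∈ Z', y ⤳ z → y = z) → (2 : WithBot ℕ∞) ≤ ringKrullDim (X.presheaf.stalk z))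
    (hcover : (𝓩.support : Set X) ⊆ Z' ∪ ⋃ i, ((𝓓 i).support : Set X)) :
    ∃ a : I →₀ ℕ, 𝓩 ≤ a.prod (fun i n => 𝓓 i ^ n) ∧
      ∃ U : X.Opens, (a.prod (fun i n => 𝓓 i ^ n)).comap U.ι = 𝓩.comap U.ι ∧
        ∀ z ∈ (𝓩.support : Set X) \ (U : Set X), (2 : WithBot ℕ∞) ≤ ringKrullDim (X.presheaf.stalk z) := by
  have hZ2 : ∀ z ∈ Z', (2 : WithBot ℕ∞) ≤ ringKrullDim (X.presheaf.stalk z) := by
    intro z hz
    obtain ⟨ξ, h1, h2, h3⟩ := exists_maximal_of_isClosed hZ' hz
    exact (hcodim ξ h1 h3).trans (ringKrullDim_le_of_specializes h2)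
  obtain ⟨a, h1, h2⟩ := key 𝓓 hD hDint Z' hZ2 𝓩 hcover
  have hFG : ∀ U, ((a.prod (fun i n => 𝓓 i ^ n)).ideal U).FG := fun U ↦ by
    have := IsLocallyNoetherian.component_noetherian (X := X) U
    exact (isNoetherianRing_iff_ideal_fg _).mp inferInstance _
  refine ⟨a, h1, (colonSheaf 𝓩 (a.prod (fun i n => 𝓓 i ^ n)) hFG).support.compl, ?_, ?_⟩
  · refine ext_stalkIdeal fun x ↦ ?_
    have hx : x.1 ∉ (colonSheaf 𝓩 (a.prod (fun i n => 𝓓 i ^ n)) hFG).support := x.2
    rw [notMem_support_colonSheaf_iff] at hx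
    rw [stalkIdeal_comap, stalkIdeal_comap]
    congr 1
    exact le_antisymm hx (stalkIdeal_mono h1 _)
  · rintro z ⟨-, hz⟩
    apply two_le_of_not_le_one
    intro hdim
    apply hz
    change z ∉ (colonSheaf 𝓩 (a.prod (fun i n => 𝓓 i ^ n)) hFG).support
    rw [notMem_support_colonSheaf_iff, h2 z hdim]

end K473.DivInClosed
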