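import Groth.Prelude.Def_RegImm
import Groth.Agent.Divis.RegImm
import Groth.Agent.Flat2H.KoszulBC
import Groth.Agent.Sga67.KoszulH1
import Groth.Agent.CalgB.QuasiRegular
import Mathlib.RingTheory.Flat.EquationalCriterion

/-!
# The four kinds of regular sequences under flat ring maps; implications between the kinds

* `isH1Regular_map_of_flat`, `isQuasiRegular_map_of_flat`: flat base change;
* `seq_map_of_flat`: for all four kinds (for the kind `regular` the image ideal must be proper);
* `koszul_of_regular`, `h1_of_koszul`, `quasi_of_h1`.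
-/

set_option autoImplicit false
universe u

open MvPolynomial

namespace K473.SeqFlat

variable {A B : Type u} [CommRing A] [CommRing B]

/-- The trivial relations of a finite sequence. -/
abbrev triv {R : Type u} [CommRing R] {c : ℕ} (f : Fin c → R) : Submodule R (Fin c → R) :=
  Submodule.span R {v : Fin c → R | ∃ i j : Fin c, v = Pi.single i (f j) - Pi.single j (f i)}

lemma map_mem_triv (φ : A →+* B) {c : ℕ} (f : Fin c → A) {a : Fin c → A} (ha : a ∈ triv f) :
    (fun i ↦ φ (a i)) ∈ triv (fun i ↦ φ (f i)) := by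
  induction ha using Submodule.span_induction with
  | mem x hx =>
    obtain ⟨i, j, rfl⟩ := hx
    refine Submodule.subset_span ⟨i, j, ?_⟩
    funext k
    simp only [Pi.sub_apply, map_sub, Pi.single_apply, apply_ite φ, map_zero]
  | zero =>
    have : (fun i ↦ φ ((0 : Fin c → A) i)) = 0 := by
      funext k
      simp
    rw [this]
    exact Submodule.zero_mem _
  | add x y _ _ hx hy =>
    have := Submodule.add_mem _ hx hy
    convert this using 1
    funext k
    simp
  | smul r x _ hx =>
    have := Submodule.smul_mem _ (φ r) hx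
    convert this using 1
    funext k
    simp

/-- Equational criterion, in the form used below: a relation with coefficients in a flat algebra comes from
relations downstairs. -/
lemma exists_relations (φ : A →+* B) (hφ : φ.Flat) {ι : Type*} [Fintype ι] (f : ι → A) (a : ι → B)
    (h : ∑ i, a i * φ (f i) = 0) :
    ∃ (n : ℕ) (b : ι → Fin n → A) (y : Fin n → B), (∀ i, a i = ∑ j, φ (b i j) * y j) ∧
      ∀ j, ∑ i, b i j * f i = 0 := by
  algebraize [φ]
  have h' : ∑ i, f i • a i = 0 := by
    rw [← h]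
    exact Finset.sum_congr rfl fun i _ ↦ by rw [Algebra.smul_def, mul_comm]; rfl
  obtain ⟨n, b, y, hy, hb⟩ := Module.Flat.isTrivialRelation_of_sum_smul_eq_zero h'
  refine ⟨n, b, y, fun i ↦ ?_, fun j ↦ ?_⟩
  · rw [hy i]
    exact Finset.sum_congr rfl fun j _ ↦ by rw [Algebra.smul_def]; rfl
  · rw [← hb j]
    exact Finset.sum_congr rfl fun i _ ↦ by rw [mul_comm]

/-- `H_1`-regular sequences under flat maps. -/
theorem isH1Regular_map_of_flat (φ : A →+* B) (hφ : φ.Flat) {c : ℕ} {f : Fin c → A}
    (hf : CAlgX.IsH1Regular f) : CAlgX.IsH1Regular (fun i ↦ φ (f i)) := by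
  intro a ha
  obtain ⟨n, b, y, hy, hb⟩ := exists_relations φ hφ f a ha
  have h1 : a = ∑ j, y j • (fun i ↦ φ (b i j)) := by
    funext i
    rw [hy i, Finset.sum_apply]
    exact Finset.sum_congr rfl fun j _ ↦ by simp [mul_comm]
  rw [h1]
  exact Submodule.sum_mem _ fun j _ ↦ Submodule.smul_mem _ _ (map_mem_triv φ f (hf _ (hb j)))

lemma eval_eq_sum_of_subset {R : Type u} [CommRing R] {c : ℕ} (f : Fin c → R) (P : MvPolynomial (Fin c) R) :
    eval f P = ∑ d : P.support, P.coeff d.1 * eval f (monomial d.1 (1 : R)) := by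
  conv_lhs => rw [P.as_sum, map_sum, ← Finset.sum_attach]
  refine Finset.sum_congr rfl fun d _ ↦ ?_
  simp only [eval_monomial, one_mul]

lemma degree_eq_of_mem_support {R : Type u} [CommRing R] {c n : ℕ} {P : MvPolynomial (Fin c) R}
    (hP : P.IsHomogeneous n) {d : Fin c →₀ ℕ} (hd : d ∈ P.support) : d.degree = n := by
  have := hP (mem_support_iff.mp hd)
  rwa [Finsupp.degree_eq_weight_one]

lemma map_range_eq (φ : A →+* B) {c : ℕ} (f : Fin c → A) :
    (Ideal.span (Set.range f)).map φ = Ideal.span (Set.range fun i ↦ φ (f i)) := by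
  rw [Ideal.map_span, ← Set.range_comp]
  rfl

/-- Quasi-regular sequences under flat maps. -/
theorem isQuasiRegular_map_of_flat (φ : A →+* B) (hφ : φ.Flat) {c : ℕ} {f : Fin c → A}
    (hf : CAlgX.IsQuasiRegular f) : CAlgX.IsQuasiRegular (fun i ↦ φ (f i)) := by
  intro n P hP hPmem d
  obtain ⟨Q, hQ, hQP⟩ := (Ideal.mem_span_pow_iff_exists_isHomogeneous _ _).mp hPmem
  -- the relation among the monomials in `f`
  let mon : (Fin c →₀ ℕ) → A := fun e ↦ eval f (monomial e (1 : A))
  have hmon : ∀ e, eval (fun i ↦ φ (f i)) (monomial e (1 : B)) = φ (mon e) := by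
    intro e
    simp only [mon, eval_monomial, one_mul, Finsupp.prod, map_prod, map_pow]
  have hrel : ∑ i : P.support ⊕ Q.support, (Sum.elim (fun e : P.support ↦ P.coeff e.1)
      (fun e : Q.support ↦ - Q.coeff e.1) i) * φ (Sum.elim (fun e : P.support ↦ mon e.1)
      (fun e : Q.support ↦ mon e.1) i) = 0 := by
    rw [Fintype.sum_sum_type]
    simp only [Sum.elim_inl, Sum.elim_inr, neg_mul, Finset.sum_neg_distrib]
    have h1 := eval_eq_sum_of_subset (fun i ↦ φ (f i)) P
    have h2 := eval_eq_sum_of_subset (fun i ↦ φ (f i)) Q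
    simp only [hmon] at h1 h2
    rw [← h1, ← h2, hQP]
    ring
  obtain ⟨m, b, y, hy, hb⟩ := exists_relations φ hφ _ _ hrel
  by_cases hd : d ∈ P.support
  swap
  · rw [mem_support_iff, not_not] at hd
    rw [hd]
    exact Ideal.zero_mem _
  have h3 := hy (Sum.inl ⟨d, hd⟩)
  simp only [Sum.elim_inl] at h3
  rw [h3, ← map_range_eq]
  refine Ideal.sum_mem _ fun j _ ↦ Ideal.mul_mem_right _ _ (Ideal.mem_map_of_mem _ ?_)
  -- the polynomial downstairs
  let Pj : MvPolynomial (Fin c) A := ∑ e : P.support, monomial e.1 (b (Sum.inl e) j)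
  let Qj : MvPolynomial (Fin c) A := ∑ e : Q.support, monomial e.1 (b (Sum.inr e) j)
  have hPj : Pj.IsHomogeneous n := by
    refine IsHomogeneous.sum _ _ _ fun e _ ↦ isHomogeneous_monomial _ ?_
    exact degree_eq_of_mem_support hP e.2
  have hQj : Qj.IsHomogeneous (n + 1) := by
    refine IsHomogeneous.sum _ _ _ fun e _ ↦ isHomogeneous_monomial _ ?_
    exact degree_eq_of_mem_support hQ e.2
  have hcoeff : Pj.coeff d = b (Sum.inl ⟨d, hd⟩) j := by
    simp only [Pj, coeff_sum, coeff_monomial]
    rw [Finset.sum_eq_single ⟨d, hd⟩]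
    · simp
    · intro e _ he
      rw [if_neg]
      intro h
      exact he (Subtype.ext h)
    · simp
  rw [← hcoeff]
  refine hf n Pj hPj ?_ d
  have h4 := hb j
  rw [Fintype.sum_sum_type] at h4
  simp only [Sum.elim_inl, Sum.elim_inr] at h4
  have h5 : eval f Pj = ∑ e : P.support, b (Sum.inl e) j * mon e.1 := by
    simp only [Pj, map_sum, mon, eval_monomial, one_mul]
  have h6 : eval f Qj = ∑ e : Q.support, b (Sum.inr e) j * mon e.1 := by
    simp only [Qj, map_sum, mon, eval_monomial, one_mul]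
  have h7 : eval f Pj = - eval f Qj := by
    rw [h5, h6]
    exact eq_neg_of_add_eq_zero_left h4
  rw [h7]
  exact neg_mem ((Ideal.mem_span_pow_iff_exists_isHomogeneous _ _).mpr ⟨Qj, hQj, rfl⟩)

/-! ### Lists versus finite families -/

lemma ofFn_get_iff (Q : ∀ {c : ℕ}, (Fin c → A) → Prop) {c : ℕ} (f : Fin c → A) :
    Q (List.ofFn f).get ↔ Q f := by
  have key : ∀ (n : ℕ) (h : n = c) (g : Fin n → A), (∀ i, g i = f (Fin.cast h i)) → (Q g ↔ Q f) := by
    rintro n rfl g hg
    have : g = f := funext fun i ↦ hg i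
    rw [this]
  exact key _ (List.length_ofFn) _ fun i ↦ by rw [List.get_ofFn]

open RegImm in
/-- the kinds `h1` and `quasi` on a list given by a family -/
lemma seq_h1_ofFn {c : ℕ} (f : Fin c → A) : Kind.h1.Seq A (List.ofFn f) ↔ CAlgX.IsH1Regular f :=
  ofFn_get_iff (fun g ↦ CAlgX.IsH1Regular g) f

open RegImm in
lemma seq_quasi_ofFn {c : ℕ} (f : Fin c → A) : Kind.quasi.Seq A (List.ofFn f) ↔ CAlgX.IsQuasiRegular f :=
  ofFn_get_iff (fun g ↦ CAlgX.IsQuasiRegular g) f

open RegImm in
/-- The four kinds of sequences under a flat ring map; the image ideal is required to be proper (this only matters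
for the kind `regular`). -/
theorem seq_map_of_flat (k : Kind) (φ : A →+* B) (hφ : φ.Flat) {rs : List A} (h : k.Seq A rs)
    (hne : Ideal.ofList (rs.map φ) ≠ ⊤) : k.Seq B (rs.map φ) := by
  obtain ⟨c, f, rfl⟩ : ∃ (c : ℕ) (f : Fin c → A), rs = List.ofFn f := ⟨_, rs.get, by simp⟩
  cases k with
  | regular =>
    exact (Groth.Agent.Divis.RegImm.isRegular_iff_ne_top _).mpr
      ⟨Groth.Agent.Divis.RegImm.isWeaklyRegular_map_of_flat φ hφ
        ((Groth.Agent.Divis.RegImm.isRegular_iff_ne_top _).mp h).1, hne⟩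
  | koszul => exact Groth.Agent.Flat2H.KoszulBC.IsKoszulRegularSeq_map_of_flat h φ hφ
  | h1 =>
    rw [List.map_ofFn, seq_h1_ofFn]
    exact isH1Regular_map_of_flat φ hφ ((seq_h1_ofFn f).mp h)
  | quasi =>
    rw [List.map_ofFn, seq_quasi_ofFn]
    exact isQuasiRegular_map_of_flat φ hφ ((seq_quasi_ofFn f).mp h)

open RegImm in
theorem koszul_of_regular {rs : List A} (h : Kind.regular.Seq A rs) : Kind.koszul.Seq A rs :=
  Groth.Agent.Flat2H.KoszulBC.isKoszulRegularSeq_of_isWeaklyRegular
    ((Groth.Agent.Divis.RegImm.isRegular_iff_ne_top _).mp h).1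

open RegImm in
theorem h1_of_koszul {rs : List A} (h : Kind.koszul.Seq A rs) : Kind.h1.Seq A rs :=
  Groth.Agent.Sga67.KoszulH1.isH1Regular_of_isKoszulRegularSeq rs h

open RegImm in
theorem quasi_of_h1 {rs : List A} (h : Kind.h1.Seq A rs) : Kind.quasi.Seq A rs :=
  Groth.Agent.CalgB.QuasiRegular.isQuasiRegular_of_isH1Regular h

end K473.SeqFlat
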