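import Groth.Agent.RegImm.K559.KindsDesc
import Groth.Agent.EGA41.K104.QuasiReg

/-!
# Slicing ideals locally generated by `H_1`-regular or quasi-regular sequences

`S`-generated ideals `K` near a prime `q`; an element `t ∈ K` which is part of a minimal system of
generators at `q` can be divided out.
-/

set_option autoImplicit false
universe u

open K559.Gen K559.GenDesc K559.KindsDesc K559.H1Flat
open Groth.Agent.Flat2H.KoszulIdeal (exists_isLocalization_away_of_away exists_awayMap)
open Groth.Agent.Flat2H.KoszulSeq (ofList_eq_span_range)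

namespace K473.Slice

/-- `Good` kinds of sequences for which the first element can be divided out. -/
structure Good' (S : ∀ (R : Type u) [CommRing R], List R → Prop) : Prop extends Good S where
  quot : ∀ (A B : Type u) [CommRing A] [CommRing B] (φ : A →+* B), Function.Surjective φ →
    ∀ (x : A) (l : List A), RingHom.ker φ = Ideal.span {x} → S A (x :: l) → S B (l.map φ)

/-- `I` is generated by an `S`-sequence near `q`. -/
def SLoc (S : ∀ (R : Type u) [CommRing R], List R → Prop) {R : Type u} [CommRing R]
    (I q : Ideal R) : Prop :=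
  ∃ g : R, g ∉ q ∧ ∃ l : List (Localization.Away g),
    S (Localization.Away g) l ∧ I.map (algebraMap R (Localization.Away g)) = Ideal.ofList l

variable {S : ∀ (R : Type u) [CommRing R], List R → Prop}

section Exch

variable (hS : Good S)

include hS

/-- exchange of generators over arbitrary rings -/
lemma exch' {A : Type u} [CommRing A] {l l' : List A} (h : S A l) (e : Ideal.ofList l' = Ideal.ofList l)
    (hlen : l'.length = l.length) : S A l' := by
  refine hS.loc _ _ fun p hp hlp => ?_
  refine hS.exch _ (l.map (algebraMap A (Localization.AtPrime p))) _ (hS.flat _ _ _ ?_ _ h) ?_ ?_ ?_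
  · rw [RingHom.flat_algebraMap_iff]; infer_instance
  · rw [← Ideal.map_ofList, ← Ideal.map_ofList, e]
  · rw [← Ideal.map_ofList, Ideal.map_le_iff_le_comap, ← e]
    refine hlp.trans ?_
    exact (IsLocalization.AtPrime.under_maximalIdeal (Localization.AtPrime p) p).ge
  · simp [hlen]

lemma exists_cons {R : Type u} [CommRing R] {K q : Ideal R} [hq : q.IsPrime] (hK : SLoc S K q)
    (t : R) (ht : t ∈ K) (hqt : ∀ s : R, s ∉ q → s * t ∉ q * K) :
    ∃ g : R, g ∉ q ∧ ∃ m : List (Localization.Away g),
      S (Localization.Away g) (algebraMap R _ t :: m) ∧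
      K.map (algebraMap R (Localization.Away g)) = Ideal.ofList (algebraMap R _ t :: m) := by
  obtain ⟨g, hg, l, hl, hl'⟩ := hK
  have ht' : algebraMap R (Localization.Away g) t ∈ Ideal.ofList l :=
    hl' ▸ Ideal.mem_map_of_mem _ ht
  rw [ofList_eq_span_range, Ideal.mem_span_range_iff_exists_fun] at ht'
  obtain ⟨c, hc⟩ := ht'
  obtain ⟨i, hi⟩ : ∃ i, c i ∉ q.map (algebraMap R (Localization.Away g)) := by
    by_contra! H
    have h1 : algebraMap R (Localization.Away g) t ∈ (q * K).map (algebraMap R _) := by
      rw [← hc, Ideal.map_mul]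
      refine sum_mem fun j _ => Ideal.mul_mem_mul (H j) ?_
      rw [hl']
      exact Ideal.subset_span (List.get_mem l j)
    rw [IsLocalization.algebraMap_mem_map_algebraMap_iff (Submonoid.powers g)] at h1
    obtain ⟨_, ⟨n, rfl⟩, hn⟩ := h1
    exact hqt (g ^ n) (fun h => hg (hq.mem_of_pow_mem n h)) hn
  obtain ⟨g', hg', hT⟩ := exists_isLocalization_away_of_away g (Localization.Away g) q hg (c i) hi
    (Localization.Away (c i))
  have hu : IsUnit (algebraMap (Localization.Away g) (Localization.Away (c i)) (c i)) :=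
    IsLocalization.Away.algebraMap_isUnit _
  -- the ring `T` and the map from `R_g`
  let e : Localization.Away (c i) →+* Localization.Away g' :=
    IsLocalization.Away.lift (S := Localization.Away (c i)) g'
      (g := algebraMap R (Localization.Away g')) (IsLocalization.Away.algebraMap_isUnit g')
  have he : e.comp (algebraMap R (Localization.Away (c i))) = algebraMap R (Localization.Away g') :=
    IsLocalization.Away.lift_comp _ _
  let ψ : Localization.Away g →+* Localization.Away g' := e.comp (algebraMap _ _)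
  have hψ : ψ.comp (algebraMap R (Localization.Away g)) = algebraMap R (Localization.Away g') := by
    rw [RingHom.comp_assoc, ← IsScalarTower.algebraMap_eq, he]
  have huψ : IsUnit (ψ (c i)) := hu.map e
  let := ψ.toAlgebra
  have : IsScalarTower R (Localization.Away g) (Localization.Away g') :=
    IsScalarTower.of_algebraMap_eq' hψ.symm
  have : Module.Flat (Localization.Away g) (Localization.Away g') :=
    (Module.flat_iff_of_isLocalization (Localization.Away g) (Submonoid.powers g) _).2 inferInstance
  have hl2 : S (Localization.Away g') (l.map ψ) := by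
    refine hS.flat _ _ _ ?_ _ hl
    change (algebraMap (Localization.Away g) (Localization.Away g')).Flat
    rw [RingHom.flat_algebraMap_iff]; infer_instance
  have hKl : K.map (algebraMap R (Localization.Away g')) = Ideal.ofList (l.map ψ) := by
    rw [← hψ, ← Ideal.map_map, hl', Ideal.map_ofList]
  refine ⟨g', hg', (l.eraseIdx i).map ψ, ?_⟩
  set N := Ideal.ofList (algebraMap R (Localization.Away g') t :: (l.eraseIdx i).map ψ) with hN
  have htN : algebraMap R (Localization.Away g') t ∈ N := Ideal.subset_span (by simp)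
  have hjN : ∀ j, j ≠ i → ψ (l.get j) ∈ N := by
    intro j hj
    refine Ideal.subset_span ?_
    simp only [List.mem_cons, List.mem_map, Set.mem_ofPred_eq]
    right
    exact ⟨l.get j, List.mem_eraseIdx_iff_getElem.2 ⟨j, j.2, fun e => hj (Fin.ext e), rfl⟩, rfl⟩
  have hiN : ψ (l.get i) ∈ N := by
    rw [← Ideal.unit_mul_mem_iff_mem N huψ]
    have h1 := congrArg ψ hc
    rw [map_sum, ← Finset.add_sum_erase _ _ (Finset.mem_univ i), map_mul] at h1
    have h2 : ψ (algebraMap R (Localization.Away g) t) = algebraMap R (Localization.Away g') t :=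
      DFunLike.congr_fun hψ t
    rw [h2] at h1
    rw [eq_sub_of_add_eq h1]
    refine sub_mem htN (sum_mem fun j hj => ?_)
    rw [map_mul]
    exact Ideal.mul_mem_left _ _ (hjN j (Finset.ne_of_mem_erase hj))
  have hlN : ∀ f ∈ l.map ψ, f ∈ N := by
    intro f hf
    obtain ⟨x, hx, rfl⟩ := List.mem_map.1 hf
    obtain ⟨j, rfl⟩ := List.mem_iff_get.1 hx
    by_cases hj : j = i
    · exact hj ▸ hiN
    · exact hjN j hj
  have heq : Ideal.ofList (l.map ψ) = N := by
    refine le_antisymm (Ideal.span_le.2 hlN) ?_
    refine Ideal.span_le.2 fun f hf => ?_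
    simp only [List.mem_cons, List.mem_map, Set.mem_ofPred_eq] at hf
    rcases hf with rfl | ⟨x, hx, rfl⟩
    · rw [← hKl]
      exact Ideal.mem_map_of_mem _ ht
    · exact Ideal.subset_span (List.mem_map.2 ⟨x, List.mem_of_mem_eraseIdx hx, rfl⟩)
  refine ⟨exch' hS hl2 heq.symm ?_, hKl.trans heq⟩
  simp only [List.length_cons, List.length_map, List.length_eraseIdx, i.2, if_true]
  have := i.2
  lia

end Exch

section Slices

variable (hS : Good' S)

include hS

/-- Dividing out one element. -/
theorem SLoc.slice {R T : Type u} [CommRing R] [CommRing T] (φ : R →+* T) (hφ : Function.Surjective φ)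
    {x : R} (hker : RingHom.ker φ = Ideal.span {x}) {K q : Ideal R} [q.IsPrime] (hKq : K ≤ q)
    (hK : SLoc S K q) (hx : x ∈ K) (hqt : ∀ s : R, s ∉ q → s * x ∉ q * K) :
    SLoc S (K.map φ) (q.map φ) := by
  obtain ⟨g, hg, m, hm, hKm⟩ := exists_cons hS.toGood hK x hx hqt
  obtain ⟨π', hπ', hk, hc⟩ := exists_awayMap φ hφ g
  rw [hker, Ideal.map_span, Set.image_singleton] at hk
  have hkq : RingHom.ker φ ≤ q := by
    rw [hker, Ideal.span_singleton_le_iff_mem]
    exact hKq hx
  refine ⟨φ g, fun h => hg ?_, m.map π', hS.quot _ _ π' hπ' _ _ hk hm, ?_⟩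
  · obtain ⟨y, hy, hyg⟩ := (Ideal.mem_map_iff_of_surjective φ hφ).1 h
    have h1 : g - y ∈ q := hkq (by rw [RingHom.mem_ker, map_sub, hyg, sub_self])
    exact (Submodule.sub_mem_iff_left q hy).1 h1
  · rw [Ideal.map_map, ← hc, ← Ideal.map_map, hKm, Ideal.map_ofList, List.map_cons]
    have h0 : π' (algebraMap R (Localization.Away g) x) = 0 := by
      rw [← RingHom.mem_ker, hk]
      exact Ideal.mem_span_singleton_self _
    rw [h0, Ideal.ofList_cons]
    simp

/-- Transport along an isomorphism. -/
theorem SLoc.map_bijective {R T : Type u} [CommRing R] [CommRing T] (φ : R →+* T) (hφ : Function.Bijective φ)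
    {K q : Ideal R} (hK : SLoc S K q) : SLoc S (K.map φ) (q.map φ) := by
  obtain ⟨g, hg, m, hm, hKm⟩ := hK
  obtain ⟨π', hπ', hk, hc⟩ := exists_awayMap φ hφ.2 g
  rw [(RingHom.injective_iff_ker_eq_bot φ).1 hφ.1, Ideal.map_bot] at hk
  refine ⟨φ g, fun h => hg ?_, m.map π', hS.flat _ _ π' (RingHom.Flat.of_bijective
    ⟨(RingHom.injective_iff_ker_eq_bot π').2 hk, hπ'⟩) _ hm, ?_⟩
  · obtain ⟨y, hy, hyg⟩ := (Ideal.mem_map_iff_of_surjective φ hφ.2).1 h
    rwa [← hφ.1 hyg]
  · rw [Ideal.map_map, ← hc, ← Ideal.map_map, hKm, Ideal.map_ofList]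

/-- Dividing out several elements of a minimal system of generators. -/
theorem SLoc.slices : ∀ (n : ℕ) {R T : Type u} [CommRing R] [CommRing T] (φ : R →+* T)
    (_ : Function.Surjective φ) (x : Fin n → R) (_ : RingHom.ker φ = Ideal.span (Set.range x))
    {K q : Ideal R} [q.IsPrime] (_ : K ≤ q) (_ : SLoc S K q) (_ : ∀ i, x i ∈ K)
    (_ : ∀ b : Fin n → R, ∑ i, b i * x i ∈ q * K → ∀ i, b i ∈ q), SLoc S (K.map φ) (q.map φ) := by
  intro n
  induction n with
  | zero =>
    intro R T _ _ φ hφ x hker K q _ _ hK _ _
    refine hK.map_bijective hS φ ⟨?_, hφ⟩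
    rw [RingHom.injective_iff_ker_eq_bot, hker]
    simp
  | succ n ih =>
    intro R T _ _ φ hφ x hker K q _ hKq hK hx hind
    let π := Ideal.Quotient.mk (Ideal.span {x 0})
    have hπ : Function.Surjective π := Ideal.Quotient.mk_surjective
    have hπk : RingHom.ker π = Ideal.span {x 0} := Ideal.mk_ker
    have hx0 : ∀ y ∈ Ideal.span {x 0}, φ y = 0 := by
      intro y hy
      rw [← RingHom.mem_ker, hker]
      exact Ideal.span_mono (by rintro _ rfl; exact ⟨0, rfl⟩) hy
    let φ₁ : R ⧸ Ideal.span {x 0} →+* T := Ideal.Quotient.lift _ φ hx0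
    have hφ₁ : φ₁.comp π = φ := Ideal.Quotient.lift_comp_mk _ φ hx0
    have hsurj : Function.Surjective φ₁ := Ideal.Quotient.lift_surjective_of_surjective _ hx0 hφ
    have hker₁ : RingHom.ker φ₁ = Ideal.span (Set.range fun i : Fin n => π (x i.succ)) := by
      rw [Ideal.ker_quotient_lift φ hx0, hker, Ideal.map_span]
      apply le_antisymm
      · rw [Ideal.span_le]
        rintro _ ⟨_, ⟨i, rfl⟩, rfl⟩
        refine Fin.cases ?_ (fun j => ?_) i
        · have : π (x 0) = 0 := Ideal.Quotient.eq_zero_iff_mem.2 (Ideal.mem_span_singleton_self _)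
          change π (x 0) ∈ _
          rw [this]
          exact Ideal.zero_mem _
        · exact Ideal.subset_span ⟨j, rfl⟩
      · refine Ideal.span_mono ?_
        rintro _ ⟨i, rfl⟩
        exact ⟨x i.succ, ⟨i.succ, rfl⟩, rfl⟩
    have hkq : RingHom.ker π ≤ q := by
      rw [hπk, Ideal.span_singleton_le_iff_mem]
      exact hKq (hx 0)
    have hpr : (q.map π).IsPrime := Ideal.map_isPrime_of_surjective hπ hkq
    have h1 : SLoc S (K.map π) (q.map π) := by
      refine hK.slice hS π hπ hπk hKq (hx 0) fun s hs h => hs ?_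
      refine hind (Fin.cons s 0) ?_ 0
      rw [Fin.sum_univ_succ]
      simpa using h
    have h2 := ih φ₁ hsurj (fun i => π (x i.succ)) hker₁ (K := K.map π) (q := q.map π)
      (Ideal.map_mono hKq) h1 (fun i => Ideal.mem_map_of_mem _ (hx _)) (fun b hb => by
        choose b' hb' using fun i => hπ (b i)
        rw [← Ideal.map_mul] at hb
        obtain ⟨y, hy, hyb⟩ := (Ideal.mem_map_iff_of_surjective π hπ).1 hb
        have h3 : (∑ i : Fin n, b' i * x i.succ) - y ∈ Ideal.span {x 0} := by
          rw [← Ideal.Quotient.eq_zero_iff_mem]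
          change π _ = 0
          rw [map_sub, map_sum, sub_eq_zero, hyb]
          exact Finset.sum_congr rfl fun i _ => by rw [map_mul, hb']
        obtain ⟨z, hz⟩ := Ideal.mem_span_singleton.1 h3
        have h4 := hind (Fin.cons (-z) b') (by
          rw [Fin.sum_univ_succ]
          simp only [Fin.cons_zero, Fin.cons_succ]
          have : -z * x 0 + ∑ i : Fin n, b' i * x i.succ = y := by
            rw [sub_eq_iff_eq_add.1 hz]; ring
          rw [this]
          exact hy)
        intro i
        rw [← hb']
        refine Ideal.mem_map_of_mem _ ?_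
        simpa using h4 i.succ)
    rwa [Ideal.map_map, Ideal.map_map, hφ₁] at h2

end Slices

/-! ### The two kinds -/

lemma single_succ {A : Type u} [Zero A] {c : ℕ} (i k : Fin c) (a : A) :
    (Pi.single i.succ a : Fin (c + 1) → A) k.succ = (Pi.single i a : Fin c → A) k := by
  by_cases h : k = i
  · subst h; simp
  · rw [Pi.single_eq_of_ne h, Pi.single_eq_of_ne (by simpa using h)]

lemma single_zero_succ {A : Type u} [Zero A] {c : ℕ} (k : Fin c) (a : A) :
    (Pi.single 0 a : Fin (c + 1) → A) k.succ = 0 :=
  Pi.single_eq_of_ne (Fin.succ_ne_zero k) a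

lemma map_single {A B : Type u} [CommRing A] [CommRing B] (φ : A →+* B) {c : ℕ} (i k : Fin c) (a : A) :
    φ ((Pi.single i a : Fin c → A) k) = (Pi.single i (φ a) : Fin c → B) k := by
  by_cases h : k = i
  · subst h; simp
  · rw [Pi.single_eq_of_ne h, Pi.single_eq_of_ne h, map_zero]

/-- the `H_1` condition modulo the first element -/
lemma isH1Regular_quot {A B : Type u} [CommRing A] [CommRing B] (φ : A →+* B) (hφ : Function.Surjective φ)
    {c : ℕ} (x : A) (f : Fin c → A) (hker : RingHom.ker φ = Ideal.span {x})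
    (h : CAlgX.IsH1Regular (Fin.cons x f : Fin (c + 1) → A)) : CAlgX.IsH1Regular (fun i => φ (f i)) := by
  rw [isH1Regular_iff] at h ⊢
  intro b hb
  choose a ha using fun i => hφ (b i)
  have h1 : ∑ i, a i * f i ∈ RingHom.ker φ := by
    rw [RingHom.mem_ker, map_sum, ← hb]
    exact Finset.sum_congr rfl fun i _ => by rw [map_mul, ha]
  rw [hker] at h1
  obtain ⟨z, hz⟩ := Ideal.mem_span_singleton'.1 h1
  have h2 := h (Fin.cons (-z) a) (by
    rw [Fin.sum_univ_succ]
    simp only [Fin.cons_zero, Fin.cons_succ]
    rw [← hz]; ring)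
  -- project
  have key : ∀ v ∈ triv (Fin.cons x f : Fin (c + 1) → A), (fun i => φ (v i.succ)) ∈ triv (fun i => φ (f i)) := by
    intro v hv
    refine Submodule.span_induction (p := fun v _ => (fun i : Fin c => φ (v i.succ)) ∈ triv (fun i => φ (f i)))
      ?_ ?_ ?_ ?_ hv
    · rintro v ⟨i, j, rfl⟩
      have hx0 : φ x = 0 := by
        rw [← RingHom.mem_ker, hker]
        exact Ideal.mem_span_singleton_self _
      refine Fin.cases ?_ (fun i => ?_) i <;> refine Fin.cases ?_ (fun j => ?_) j
      · simp only [Pi.sub_apply, Fin.cons_zero, sub_self, map_zero]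
        exact zero_mem _
      · simp only [Pi.sub_apply, Fin.cons_zero, Fin.cons_succ, single_zero_succ, single_succ, map_sub, map_zero,
          map_single, hx0, Pi.single_zero, Pi.zero_apply, sub_zero]
        exact zero_mem _
      · simp only [Pi.sub_apply, Fin.cons_zero, Fin.cons_succ, single_zero_succ, single_succ, map_sub, map_zero,
          map_single, hx0, Pi.single_zero, Pi.zero_apply, sub_zero]
        exact zero_mem _
      · simp only [Pi.sub_apply, Fin.cons_succ, single_succ, map_sub, map_single]
        exact Submodule.subset_span ⟨i, j, rfl⟩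
    · simp only [Pi.zero_apply, map_zero]
      exact zero_mem _
    · intro v w _ _ hv hw
      simp only [Pi.add_apply, map_add]
      exact add_mem hv hw
    · intro r v _ hv
      simp only [Pi.smul_apply, smul_eq_mul, map_mul]
      exact Submodule.smul_mem _ (φ r) hv
  have h3 := key _ h2
  simp only [Fin.cons_succ, ha] at h3
  exact h3

/-- quasi-regularity modulo the first element -/
lemma isQuasiRegular_quot {A B : Type u} [CommRing A] [CommRing B] (φ : A →+* B) (hφ : Function.Surjective φ)
    {c : ℕ} (f : Fin (c + 1) → A) (hker : RingHom.ker φ = Ideal.span {f 0})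
    (h : CAlgX.IsQuasiRegular f) : CAlgX.IsQuasiRegular (fun i : Fin c => φ (f i.succ)) := by
  have h1 := K104.QuasiReg.isQuasiRegular_quotient h
  have h0 : ∀ y ∈ Ideal.span {f 0}, φ y = 0 := fun y hy => by rwa [← RingHom.mem_ker, hker]
  let e : A ⧸ Ideal.span {f 0} →+* B := Ideal.Quotient.lift _ φ h0
  have he : Function.Bijective e :=
    ⟨(Ideal.injective_lift_iff _).mpr hker, Ideal.Quotient.lift_surjective_of_surjective _ h0 hφ⟩
  let := e.toAlgebra
  have : Module.Flat (A ⧸ Ideal.span {f 0}) B := RingHom.Flat.of_bijective he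
  have h2 := K559.QuasiFlat.isQuasiRegular_of_flat (B := B) h1
  convert h2 using 2
  exact (Ideal.Quotient.lift_mk _ φ h0).symm

theorem good_h1 : Good'.{u} (fun _ _ l => CAlgX.IsH1Regular l.get) where
  toGood := K559.KindsDesc.good_h1
  quot A B _ _ φ hφ x l hker hl := by
    rw [h1_map]
    exact isH1Regular_quot φ hφ x l.get hker
      ((h1_congr rfl _ _ (fun i => by refine Fin.cases ?_ (fun j => ?_) i <;> rfl)).1 hl)

theorem good_q : Good'.{u} (fun _ _ l => CAlgX.IsQuasiRegular l.get) where
  toGood := K559.KindsDesc.good_q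
  quot A B _ _ φ hφ x l hker hl := by
    rw [q_map]
    exact isQuasiRegular_quot φ hφ (x :: l).get hker hl

end K473.Slice
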