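import Mathlib.RingTheory.Etale.Kaehler
import Mathlib.RingTheory.Etale.Locus
import Mathlib.RingTheory.LocalRing.Module
import Mathlib.RingTheory.Smooth.Basic
import Mathlib.RingTheory.TensorProduct.Quotient
import Groth.Agent.Pi1B.EtaleDiff
import Groth.Agent.Divis.ColonIdeal
import Groth.Agent.Flat2H.KoszulIdeal

/-!
# Sections of smooth algebras: coordinates in the ideal of the section

`A → B` smooth, `I ⊆ B` with `A → B / I` surjective, `P ⊇ I` prime.
-/

set_option autoImplicit false
universe u

open TensorProduct KaehlerDifferential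

namespace K473.SmCoord

variable {A B : Type u} [CommRing A] [CommRing B] [Algebra A B]

theorem span_D (I : Ideal B) (hI : ∀ b : B, ∃ a : A, b - algebraMap A B a ∈ I) :
    Submodule.span B (Set.range fun i : I => D A B i.1) = ⊤ := by
  rw [eq_top_iff, ← KaehlerDifferential.span_range_derivation, Submodule.span_le]
  rintro _ ⟨b, rfl⟩
  obtain ⟨a, ha⟩ := hI b
  have : D A B b = D A B (b - algebraMap A B a) := by rw [map_sub, Derivation.map_algebraMap, sub_zero]
  rw [this]
  exact Submodule.subset_span ⟨⟨_, ha⟩, rfl⟩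

/-- Elements of `I` whose differentials form a basis of `Ω` at `P`. -/
theorem exists_basis [Algebra.Smooth A B] (I : Ideal B) (hI : ∀ b : B, ∃ a : A, b - algebraMap A B a ∈ I)
    (P : Ideal B) [P.IsPrime] : ∃ (n : ℕ) (x : Fin n → B), (∀ i, x i ∈ I) ∧
      ∃ b : Module.Basis (Fin n) (Localization.AtPrime P) (Ω[Localization.AtPrime P⁄A]),
        ∀ i, b i = D A _ (algebraMap B _ (x i)) := by
  have h1 : Submodule.span (Localization.AtPrime P)
      (Set.range fun i : I => D A (Localization.AtPrime P) (algebraMap B _ i.1)) = ⊤ := by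
    have := span_eq_top_of_isLocalizedModule (Localization.AtPrime P) P.primeCompl
      (KaehlerDifferential.map A A B (Localization.AtPrime P)) (span_D I hI)
    rw [← Set.range_comp] at this
    have h2 : (fun i : I => D A (Localization.AtPrime P) (algebraMap B _ i.1)) =
        (KaehlerDifferential.map A A B (Localization.AtPrime P)) ∘ (fun i : I => D A B i.1) := by
      funext i
      simp
    rw [h2]
    exact this
  have : Module.FinitePresentation (Localization.AtPrime P) (Ω[Localization.AtPrime P⁄A]) := by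
    have : Module.Finite (Localization.AtPrime P) (Ω[Localization.AtPrime P⁄A]) :=
      Module.Finite.of_isLocalizedModule P.primeCompl (KaehlerDifferential.map A A B (Localization.AtPrime P))
    exact Module.finitePresentation_of_projective _ _
  obtain ⟨κ, a, b, hb⟩ := Module.exists_basis_of_span_of_flat _ h1
  have : Finite κ := Module.Finite.finite_basis b
  obtain ⟨n, ⟨e⟩⟩ := Finite.exists_equiv_fin κ
  refine ⟨n, fun i => (a (e.symm i)).1, fun i => (a (e.symm i)).2, b.reindex e, fun i => ?_⟩
  rw [Module.Basis.reindex_apply, hb]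

section Basis

variable {I P : Ideal B} [P.IsPrime] {n : ℕ} {x : Fin n → B}
  (b : Module.Basis (Fin n) (Localization.AtPrime P) (Ω[Localization.AtPrime P⁄A]))
  (hb : ∀ i, b i = D A _ (algebraMap B _ (x i)))

include hb

/-- The `x i` are part of a minimal system of generators of `I` at `P`. -/
theorem indep (hIP : I ≤ P) (hx : ∀ i, x i ∈ I) (c : Fin n → B) (hc : ∑ i, c i * x i ∈ P * I) (i : Fin n) :
    c i ∈ P := by
  set m := IsLocalRing.maximalIdeal (Localization.AtPrime P)
  have hm : ∀ y ∈ P, algebraMap B (Localization.AtPrime P) y ∈ m := fun y hy =>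
    (IsLocalization.AtPrime.to_map_mem_maximal_iff (Localization.AtPrime P) P y).2 hy
  have h1 : ∀ y ∈ P * I, D A (Localization.AtPrime P) (algebraMap B _ y) ∈
      (m • ⊤ : Submodule (Localization.AtPrime P) (Ω[Localization.AtPrime P⁄A])) := by
    intro y hy
    refine Submodule.mul_induction_on hy (fun p hp i hi => ?_) (fun y z hy hz => ?_)
    · rw [map_mul, Derivation.leibniz]
      exact add_mem (Submodule.smul_mem_smul (hm p hp) trivial) (Submodule.smul_mem_smul (hm i (hIP hi)) trivial)
    · rw [map_add, map_add]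
      exact add_mem hy hz
  have h2 := h1 _ hc
  rw [map_sum, map_sum] at h2
  have h3 : ∑ i, algebraMap B (Localization.AtPrime P) (c i) • b i ∈
      (m • ⊤ : Submodule (Localization.AtPrime P) (Ω[Localization.AtPrime P⁄A])) := by
    have h4 : ∑ i, algebraMap B (Localization.AtPrime P) (x i) • D A (Localization.AtPrime P) (algebraMap B _ (c i)) ∈
        (m • ⊤ : Submodule (Localization.AtPrime P) (Ω[Localization.AtPrime P⁄A])) :=
      sum_mem fun i _ => Submodule.smul_mem_smul (hm _ (hIP (hx i))) trivial
    have h5 := sub_mem h2 h4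
    rw [← Finset.sum_sub_distrib] at h5
    convert h5 using 2 with i
    rw [map_mul, Derivation.leibniz, hb, add_sub_cancel_right]
  have h6 : ∀ z ∈ (m • ⊤ : Submodule (Localization.AtPrime P) (Ω[Localization.AtPrime P⁄A])), b.repr z i ∈ m := by
    intro z hz
    refine Submodule.smul_induction_on hz (fun r hr w _ => ?_) (fun y z hy hz => ?_)
    · rw [map_smul, Finsupp.smul_apply, smul_eq_mul]
      exact Ideal.mul_mem_right _ _ hr
    · rw [map_add, Finsupp.add_apply]
      exact add_mem hy hz
  have h7 := h6 _ h3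
  rw [b.repr_sum_self] at h7
  exact (IsLocalization.AtPrime.to_map_mem_maximal_iff (Localization.AtPrime P) P _).1 h7

/-- Modulo `I ^ 2` and the ideal of `A`, `I` is generated by the `x i` near `P`. -/
theorem exists_smul_mem (hI : ∀ b : B, ∃ a : A, b - algebraMap A B a ∈ I) (hx : ∀ i, x i ∈ I)
    {y : B} (hy : y ∈ I) :
    ∃ s : B, s ∉ P ∧ s * y ∈ Ideal.span (Set.range x) ⊔ (I ^ 2 ⊔ (I.comap (algebraMap A B)).map (algebraMap A B)) := by
  set N : Ideal B := I ^ 2 ⊔ (I.comap (algebraMap A B)).map (algebraMap A B) with hN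
  choose a ha using hI
  have hJ : ∀ c : A, algebraMap A B c ∈ I → algebraMap A B c ∈ N := fun c hc =>
    Ideal.mem_sup_right (Ideal.mem_map_of_mem _ hc)
  let δ₀ : B →ₗ[A] B ⧸ N :=
    { toFun := fun z => Ideal.Quotient.mk N (z - algebraMap A B (a z))
      map_add' := fun z w => by
        rw [← map_add, Ideal.Quotient.eq]
        have h1 : z + w - algebraMap A B (a (z + w)) - (z - algebraMap A B (a z) + (w - algebraMap A B (a w))) =
            algebraMap A B (a z + a w - a (z + w)) := by
          rw [map_sub, map_add]; ring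
        rw [h1]
        refine hJ _ ?_
        rw [← h1]
        exact sub_mem (ha _) (add_mem (ha _) (ha _))
      map_smul' := fun r z => by
        rw [RingHom.id_apply, Algebra.smul_def, Algebra.smul_def,
          IsScalarTower.algebraMap_apply A B (B ⧸ N), Ideal.Quotient.algebraMap_eq, ← map_mul, Ideal.Quotient.eq]
        have h1 : algebraMap A B r * z - algebraMap A B (a (algebraMap A B r * z)) -
            algebraMap A B r * (z - algebraMap A B (a z)) =
            algebraMap A B (r * a z - a (algebraMap A B r * z)) := by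
          rw [map_sub, map_mul]; ring
        rw [h1]
        refine hJ _ ?_
        rw [← h1]
        exact sub_mem (ha _) (Ideal.mul_mem_left _ _ (ha _)) }
  have hδ₀ : ∀ z, δ₀ z = Ideal.Quotient.mk N (z - algebraMap A B (a z)) := fun z => rfl
  let δ : Derivation A B (B ⧸ N) := Derivation.mk' δ₀ fun z w => by
    rw [hδ₀, hδ₀, hδ₀]
    rw [Algebra.smul_def, Algebra.smul_def, Ideal.Quotient.algebraMap_eq, ← map_mul, ← map_mul, ← map_add,
      Ideal.Quotient.eq]
    have h1 : z * w - algebraMap A B (a (z * w)) - (z * (w - algebraMap A B (a w)) + w * (z - algebraMap A B (a z)))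
        = algebraMap A B (a z * a w - a (z * w)) - (z - algebraMap A B (a z)) * (w - algebraMap A B (a w)) := by
      rw [map_sub, map_mul]; ring
    rw [h1]
    have h2 : (z - algebraMap A B (a z)) * (w - algebraMap A B (a w)) ∈ N :=
      Ideal.mem_sup_left (by rw [sq]; exact Ideal.mul_mem_mul (ha _) (ha _))
    refine sub_mem (hJ _ ?_) h2
    have h3 : algebraMap A B (a z * a w - a (z * w)) =
        (z * w - algebraMap A B (a (z * w))) - z * (w - algebraMap A B (a w)) -
          algebraMap A B (a w) * (z - algebraMap A B (a z)) := by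
      rw [map_sub, map_mul]; ring
    rw [h3]
    exact sub_mem (sub_mem (ha _) (Ideal.mul_mem_left _ _ (ha _))) (Ideal.mul_mem_left _ _ (ha _))
  have hδ : ∀ z ∈ I, δ z = Ideal.Quotient.mk N z := by
    intro z hz
    change Ideal.Quotient.mk N (z - algebraMap A B (a z)) = _
    rw [map_sub, sub_eq_self, Ideal.Quotient.eq_zero_iff_mem]
    refine hJ _ ?_
    have := sub_mem hz (ha z)
    rwa [sub_sub_cancel] at this
  let ℓ : Ω[B⁄A] →ₗ[B] B ⧸ N := δ.liftKaehlerDifferential
  have hℓ : ∀ z ∈ I, ℓ (D A B z) = Ideal.Quotient.mk N z := fun z hz =>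
    (δ.liftKaehlerDifferential_comp_D z).trans (hδ z hz)
  let f := KaehlerDifferential.map A A B (Localization.AtPrime P)
  have hf : ∀ z, f (D A B z) = D A (Localization.AtPrime P) (algebraMap B _ z) := fun z =>
    KaehlerDifferential.map_D A A B (Localization.AtPrime P) z
  obtain ⟨s, hs⟩ := IsLocalization.exist_integer_multiples_of_finite P.primeCompl
    (fun i => b.repr (D A (Localization.AtPrime P) (algebraMap B _ y)) i)
  choose c hc using hs
  have h1 : f ((s : B) • D A B y) = f (∑ i, c i • D A B (x i)) := by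
    rw [map_smul, hf, map_sum]
    conv_lhs => rw [← b.sum_repr (D A (Localization.AtPrime P) (algebraMap B _ y))]
    rw [Finset.smul_sum]
    refine Finset.sum_congr rfl fun i _ => ?_
    rw [map_smul, hf, ← hb, ← smul_assoc, ← hc i, algebraMap_smul]
  obtain ⟨s', hs'⟩ := (IsLocalizedModule.eq_iff_exists P.primeCompl f).1 h1
  have h2 := congrArg ℓ hs'
  rw [Submonoid.smul_def, Submonoid.smul_def, map_smul, map_smul, map_smul, map_sum, hℓ y hy] at h2
  have h3 : Ideal.Quotient.mk N (s'.1 * s.1 * y - ∑ i, s'.1 * c i * x i) = 0 := by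
    rw [map_sub, sub_eq_zero, map_sum]
    have h4 : ∀ (r z : B), Ideal.Quotient.mk N (r * z) = r • Ideal.Quotient.mk N z := fun r z => rfl
    rw [h4, mul_smul, h2, Finset.smul_sum]
    refine Finset.sum_congr rfl fun i _ => ?_
    rw [h4, mul_smul, map_smul, hℓ _ (hx i)]
  rw [Ideal.Quotient.eq_zero_iff_mem] at h3
  refine ⟨s'.1 * s.1, ?_, ?_⟩
  · exact P.primeCompl.mul_mem s'.2 s.2
  · have h5 : s'.1 * s.1 * y = (∑ i, s'.1 * c i * x i) + (s'.1 * s.1 * y - ∑ i, s'.1 * c i * x i) := by ring
    rw [h5]
    exact add_mem (Ideal.mem_sup_left (sum_mem fun i _ => Ideal.mul_mem_left _ _ (Ideal.subset_span ⟨i, rfl⟩)))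
      (Ideal.mem_sup_right h3)

/-- `I = (x) + I ∩ A` near `P`. -/
theorem exists_smul_le (hI : ∀ b : B, ∃ a : A, b - algebraMap A B a ∈ I) (hIP : I ≤ P) (hx : ∀ i, x i ∈ I)
    (hfg : I.FG) : ∃ s : B, s ∉ P ∧ ∀ y ∈ I,
      s * y ∈ Ideal.span (Set.range x) ⊔ (I.comap (algebraMap A B)).map (algebraMap A B) := by
  set N := Ideal.span (Set.range x) ⊔ (I.comap (algebraMap A B)).map (algebraMap A B) with hN
  let φ := algebraMap B (Localization.AtPrime P)
  have h1 : I.map φ ≤ N.map φ ⊔ (I.map φ) • (I.map φ) := by
    rw [Ideal.map_le_iff_le_comap]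
    intro y hy
    obtain ⟨s, hs, h⟩ := exists_smul_mem b hb hI hx hy
    rw [sup_comm (I ^ 2), ← sup_assoc] at h
    have h2 := Ideal.mem_map_of_mem φ h
    rw [Ideal.map_sup, Ideal.map_pow, sq, map_mul] at h2
    exact (Ideal.unit_mul_mem_iff_mem _ (IsLocalization.map_units (Localization.AtPrime P)
      (⟨s, hs⟩ : P.primeCompl))).1 h2
  have h2 : I.map φ ≤ N.map φ := by
    refine Submodule.le_of_le_smul_of_le_jacobson_bot (hfg.map φ) ?_ h1
    rw [IsLocalRing.jacobson_eq_maximalIdeal _ bot_ne_top, Ideal.map_le_iff_le_comap]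
    exact fun y hy => (IsLocalization.AtPrime.to_map_mem_maximal_iff (Localization.AtPrime P) P y).2 (hIP hy)
  obtain ⟨s, hs, h⟩ := Groth.Agent.Divis.ColonIdeal.exists_uniform P.primeCompl N I hfg fun y hy => by
    have h3 := h2 (Ideal.mem_map_of_mem φ hy)
    rw [IsLocalization.algebraMap_mem_map_algebraMap_iff P.primeCompl] at h3
    obtain ⟨u, hu, h4⟩ := h3
    exact ⟨u, hu, h4⟩
  exact ⟨s, hs, h⟩

/-- The zero locus of the `x i` is étale over `A` near `P`. -/
theorem exists_etale [Algebra.Smooth A B] {C : Type u} [CommRing C] [Algebra A C] (φ : B →ₐ[A] C)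
    (hφ : Function.Surjective φ) (hker : RingHom.ker φ = Ideal.span (Set.range x)) :
    ∃ h : B, h ∉ P ∧ Algebra.Etale A (Localization.Away (φ h)) := by
  let : Algebra (MvPolynomial (Fin n) A) B := (MvPolynomial.aeval x : MvPolynomial (Fin n) A →ₐ[A] B).toAlgebra
  have : IsScalarTower A (MvPolynomial (Fin n) A) B :=
    .of_algebraMap_eq' (MvPolynomial.aeval x : MvPolynomial (Fin n) A →ₐ[A] B).comp_algebraMap.symm
  have hX : ∀ i, algebraMap (MvPolynomial (Fin n) A) B (MvPolynomial.X i) = x i := fun i =>
    MvPolynomial.aeval_X x i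
  have hX' : ∀ i, algebraMap (MvPolynomial (Fin n) A) (Localization.AtPrime P) (MvPolynomial.X i) =
      algebraMap B _ (x i) := fun i => by
    rw [IsScalarTower.algebraMap_apply (MvPolynomial (Fin n) A) B (Localization.AtPrime P), hX]
  have h1 : Algebra.IsEtaleAt (MvPolynomial (Fin n) A) P := by
    refine Groth.Agent.Pi1B.EtaleDiff.formallyEtale_of_bijective (R := A) ?_
    rw [Groth.Agent.Pi1B.EtaleDiff.bijective_mapBaseChange_iff]
    have : (Finsupp.linearCombination (Localization.AtPrime P) (fun i => D A (Localization.AtPrime P)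
        (algebraMap (MvPolynomial (Fin n) A) (Localization.AtPrime P) (MvPolynomial.X i)))) =
        b.repr.symm.toLinearMap := by
      ext i
      simp [hX', hb]
    rw [this]
    exact b.repr.symm.bijective
  have h2 : Algebra.FinitePresentation (MvPolynomial (Fin n) A) B :=
    Algebra.FinitePresentation.of_restrict_scalars_finitePresentation A _ B
  obtain ⟨h, hh, h3⟩ := Algebra.exists_etale_of_isEtaleAt (R := MvPolynomial (Fin n) A) P
  refine ⟨h, hh, ?_⟩
  let K : Ideal (MvPolynomial (Fin n) A) := Ideal.span (Set.range MvPolynomial.X)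
  -- `A` is the quotient of the polynomial ring
  have h4 : Algebra.Etale A (MvPolynomial (Fin n) A ⧸ K) := by
    have hb : Function.Bijective (Algebra.ofId A (MvPolynomial (Fin n) A ⧸ K)) := by
      constructor
      · rw [injective_iff_map_eq_zero]
        intro a ha
        have h5 : (MvPolynomial.C a : MvPolynomial (Fin n) A) ∈ K := by
          rw [← Ideal.Quotient.eq_zero_iff_mem]; exact ha
        have h6 : K ≤ RingHom.ker (MvPolynomial.constantCoeff : MvPolynomial (Fin n) A →+* A) := by
          rw [Ideal.span_le]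
          rintro _ ⟨i, rfl⟩
          exact MvPolynomial.constantCoeff_X A i
        have h7 := h6 h5
        rwa [RingHom.mem_ker, MvPolynomial.constantCoeff_C] at h7
      · intro z
        obtain ⟨p, rfl⟩ := Ideal.Quotient.mk_surjective z
        induction p using MvPolynomial.induction_on with
        | C a => exact ⟨a, rfl⟩
        | add p q hp hq =>
          obtain ⟨a, ha⟩ := hp
          obtain ⟨c, hc⟩ := hq
          exact ⟨a + c, by rw [map_add, map_add, ha, hc]⟩
        | mul_X p i _ =>
          refine ⟨0, ?_⟩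
          rw [map_zero, eq_comm, Ideal.Quotient.eq_zero_iff_mem]
          exact Ideal.mul_mem_left _ _ (Ideal.subset_span ⟨i, rfl⟩)
    exact Algebra.Etale.of_equiv (AlgEquiv.ofBijective _ hb)
  let T := Localization.Away h
  have h5 : Algebra.Etale (MvPolynomial (Fin n) A ⧸ K) (T ⧸ K.map (algebraMap (MvPolynomial (Fin n) A) T)) :=
    Algebra.Etale.of_equiv (A := (MvPolynomial (Fin n) A ⧸ K) ⊗[MvPolynomial (Fin n) A] T)
      (Algebra.TensorProduct.quotIdealMapEquivQuotTensor T K).symm
  have h6 : Algebra.Etale A (T ⧸ K.map (algebraMap (MvPolynomial (Fin n) A) T)) := by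
    have : IsScalarTower A (MvPolynomial (Fin n) A ⧸ K) (T ⧸ K.map (algebraMap (MvPolynomial (Fin n) A) T)) := by
      refine IsScalarTower.of_algebraMap_eq (R := A) (S := MvPolynomial (Fin n) A ⧸ K)
        (A := T ⧸ K.map (algebraMap (MvPolynomial (Fin n) A) T)) fun a => ?_
      change Ideal.Quotient.mk _ (algebraMap A T a) =
        Ideal.Quotient.mk _ (algebraMap (MvPolynomial (Fin n) A) T (algebraMap A (MvPolynomial (Fin n) A) a))
      rw [← IsScalarTower.algebraMap_apply A (MvPolynomial (Fin n) A) T]
    exact Algebra.Etale.comp A (MvPolynomial (Fin n) A ⧸ K) (T ⧸ K.map (algebraMap (MvPolynomial (Fin n) A) T))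
  obtain ⟨π, hπ, hk, hc⟩ := Groth.Agent.Flat2H.KoszulIdeal.exists_awayMap (φ : B →+* C) hφ h
  let π' : T →ₐ[A] Localization.Away (φ h) :=
    { π with
      commutes' := fun a => by
        have h7 : π (algebraMap B T (algebraMap A B a)) =
            algebraMap C (Localization.Away (φ h)) (φ (algebraMap A B a)) := DFunLike.congr_fun hc _
        change π (algebraMap A T a) = algebraMap A (Localization.Away (φ h)) a
        rw [IsScalarTower.algebraMap_apply A B T, h7, φ.commutes,
          ← IsScalarTower.algebraMap_apply A C (Localization.Away (φ h))] }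
  have hk' : RingHom.ker π' = K.map (algebraMap (MvPolynomial (Fin n) A) T) := by
    refine hk.trans ?_
    change (RingHom.ker φ).map (algebraMap B T) = _
    rw [hker, Ideal.map_span, Ideal.map_span, ← Set.range_comp, ← Set.range_comp]
    congr 2
    funext i
    rw [Function.comp_apply, Function.comp_apply,
      IsScalarTower.algebraMap_apply (MvPolynomial (Fin n) A) B T, hX]
  have e1 : (T ⧸ K.map (algebraMap (MvPolynomial (Fin n) A) T)) ≃ₐ[A] (T ⧸ RingHom.ker π') :=
    Ideal.quotientEquivAlgOfEq A hk'.symm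
  exact Algebra.Etale.of_equiv (e1.trans (Ideal.quotientKerAlgEquivOfSurjective (f := π') hπ))

end Basis

end K473.SmCoord
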