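import Groth.Agent.SDiv.K473.Slice
import Groth.Agent.SDiv.K473.SmCoord

/-!
# Regular immersions along smooth morphisms: the algebra

`A → B` smooth, `I ⊆ B` an ideal locally generated by `S`-sequences with `A → B / I` surjective: then
`I ∩ A` is locally generated by `S`-sequences.
-/

set_option autoImplicit false
universe u

open TensorProduct
open K559.Gen K559.GenDesc K473.Slice K473.SmCoord
open Groth.Agent.Flat2H.KoszulIdeal (exists_isLocalization_away_of_away)

namespace K473.SmDesc

variable {S : ∀ (R : Type u) [CommRing R], List R → Prop}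

theorem sLoc_of_away (hS : Good S) {A : Type u} [CommRing A] {J Q : Ideal A} [Q.IsPrime] (a : A) (ha : a ∉ Q)
    (h : SLoc S (J.map (algebraMap A (Localization.Away a))) (Q.map (algebraMap A (Localization.Away a)))) :
    SLoc S J Q := by
  obtain ⟨g, hg, l, hl, hJ⟩ := h
  obtain ⟨g', hg', hT⟩ := exists_isLocalization_away_of_away a (Localization.Away a) Q ha g hg
    (Localization.Away g)
  let e : Localization.Away g ≃ₐ[A] Localization.Away g' :=
    IsLocalization.algEquiv (Submonoid.powers g') _ _
  refine ⟨g', hg', l.map e, hS.flat _ _ (e : Localization.Away g →+* Localization.Away g')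
    (RingHom.Flat.of_bijective e.bijective) _ hl, ?_⟩
  have h2 : (algebraMap A (Localization.Away g')) =
      (e : Localization.Away g →+* Localization.Away g').comp
        ((algebraMap (Localization.Away a) (Localization.Away g)).comp (algebraMap A _)) := by
    ext x
    rw [← IsScalarTower.algebraMap_eq]
    exact (e.commutes x).symm
  rw [h2, ← Ideal.map_map, ← Ideal.map_map, hJ, Ideal.map_ofList]
  rfl

theorem sIdeal_ofList (hS : FlatStable S) {A : Type u} [CommRing A] {l : List A} (hl : S A l) :
    SIdeal S (Ideal.ofList l) := by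
  intro p hp _
  refine ⟨1, fun h => hp.ne_top ((Ideal.eq_top_iff_one p).2 h), l.map (algebraMap A (Localization.Away (1 : A))),
    hS _ _ _ ?_ _ hl, Ideal.map_ofList _ _⟩
  rw [RingHom.flat_algebraMap_iff]; infer_instance

/-- Descent along a flat finitely presented algebra at a prime of the base in the image. -/
theorem sLoc_of_flat (hS : Good S) {A T : Type u} [CommRing A] [CommRing T] [Algebra A T] [Module.Flat A T]
    [Algebra.FinitePresentation A T] {J : Ideal A} {m : List T} (hm : S T m)
    (hJ : J.map (algebraMap A T) = Ideal.ofList m) (p : Ideal T) [p.IsPrime]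
    (hJp : J ≤ p.comap (algebraMap A T)) : SLoc S J (p.comap (algebraMap A T)) := by
  have hopen := PrimeSpectrum.isOpenMap_comap_of_hasGoingDown_of_finitePresentation (R := A) (S := T)
  obtain ⟨_, ⟨a, rfl⟩, ha, hsub⟩ := PrimeSpectrum.isTopologicalBasis_basic_opens.isOpen_iff.1
    hopen.isOpen_range (PrimeSpectrum.comap (algebraMap A T) ⟨p, inferInstance⟩) ⟨_, rfl⟩
  have ha' : a ∉ p.comap (algebraMap A T) := ha
  let A' := Localization.Away a
  let T' := Localization.Away (algebraMap A T a)
  let : Algebra A' T' := (IsLocalization.Away.lift (S := A') a (g := algebraMap A T')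
    (by
      rw [IsScalarTower.algebraMap_apply A T T']
      exact IsLocalization.Away.algebraMap_isUnit _)).toAlgebra
  have hT : IsScalarTower A A' T' := IsScalarTower.of_algebraMap_eq' (IsLocalization.Away.lift_comp _ _).symm
  have : Module.Flat A T' := Module.Flat.trans A T T'
  have : Module.Flat A' T' := (Module.flat_iff_of_isLocalization A' (Submonoid.powers a) T').2 inferInstance
  have : Module.FaithfullyFlat A' T' := by
    refine Module.FaithfullyFlat.of_comap_surjective fun q => ?_
    have h1 : PrimeSpectrum.comap (algebraMap A A') q ∈ (PrimeSpectrum.basicOpen a : Set (PrimeSpectrum A)) := by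
      rw [← PrimeSpectrum.localization_away_comap_range A' a]
      exact ⟨q, rfl⟩
    obtain ⟨r, hr⟩ := hsub h1
    have h2 : r ∈ Set.range (PrimeSpectrum.comap (algebraMap T T')) := by
      rw [PrimeSpectrum.localization_away_comap_range T' (algebraMap A T a)]
      intro h3
      have h4 : a ∈ (PrimeSpectrum.comap (algebraMap A T) r).asIdeal := h3
      rw [hr] at h4
      exact h1 h4
    obtain ⟨r', rfl⟩ := h2
    refine ⟨r', PrimeSpectrum.localization_comap_injective A' (Submonoid.powers a) ?_⟩
    rw [← hr, ← PrimeSpectrum.comap_comp_apply, ← PrimeSpectrum.comap_comp_apply,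
      ← IsScalarTower.algebraMap_eq, ← IsScalarTower.algebraMap_eq]
  have h3 : SIdeal S (J.map (algebraMap A A')) := by
    refine descent hS (B := T') ?_
    rw [Ideal.map_map, ← IsScalarTower.algebraMap_eq, IsScalarTower.algebraMap_eq A T T', ← Ideal.map_map, hJ,
      Ideal.map_ofList]
    refine sIdeal_ofList hS.flat (hS.flat _ _ _ ?_ _ hm)
    rw [RingHom.flat_algebraMap_iff]; infer_instance
  refine sLoc_of_away hS a ha' (h3 _ ?_ (Ideal.map_mono hJp))
  refine IsLocalization.isPrime_of_isPrime_disjoint (Submonoid.powers a) A' _ inferInstance ?_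
  rw [Ideal.disjoint_powers_iff_notMem_of_isPrime]
  exact ha'

theorem sIdeal_comap (hS : Good' S) {A B : Type u} [CommRing A] [CommRing B] [Algebra A B] [Algebra.Smooth A B]
    (I : Ideal B) (hI : ∀ b : B, ∃ a : A, b - algebraMap A B a ∈ I) (h : SIdeal S I) :
    SIdeal S (I.comap (algebraMap A B)) := by
  intro Q hQ hJQ
  set J := I.comap (algebraMap A B) with hJ
  let ρ : A →+* B ⧸ I := (Ideal.Quotient.mk I).comp (algebraMap A B)
  have hρ : Function.Surjective ρ := by
    intro z
    obtain ⟨b, rfl⟩ := Ideal.Quotient.mk_surjective z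
    obtain ⟨a, ha⟩ := hI b
    exact ⟨a, (Ideal.Quotient.eq.2 ha).symm⟩
  have hρk : RingHom.ker ρ = J := by
    rw [hJ, ← RingHom.comap_ker, Ideal.mk_ker]
  have hpr : (Q.map ρ).IsPrime := Ideal.map_isPrime_of_surjective hρ (hρk.trans_le hJQ)
  set P : Ideal B := (Q.map ρ).comap (Ideal.Quotient.mk I) with hP
  have hIP : I ≤ P := by
    rw [hP]
    intro y hy
    rw [Ideal.mem_comap, Ideal.Quotient.eq_zero_iff_mem.2 hy]
    exact zero_mem _
  have hPQ : P.comap (algebraMap A B) = Q := by
    rw [hP, Ideal.comap_comap]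
    change (Q.map ρ).comap ρ = Q
    rw [Ideal.comap_map_of_surjective ρ hρ, ← RingHom.ker_eq_comap_bot, hρk]
    exact sup_eq_left.2 hJQ
  obtain ⟨n, x, hx, b, hb⟩ := exists_basis I hI P
  have hfg : I.FG := fg h
  let φ : B →ₐ[A] B ⧸ Ideal.span (Set.range x) := Ideal.Quotient.mkₐ A _
  have hφ : Function.Surjective φ := Ideal.Quotient.mkₐ_surjective _ _
  have hker : RingHom.ker φ = Ideal.span (Set.range x) := Ideal.Quotient.mkₐ_ker A _
  have hkP : RingHom.ker (φ : B →+* B ⧸ Ideal.span (Set.range x)) ≤ P := by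
    refine hker.trans_le ((Ideal.span_le.2 ?_).trans hIP)
    rintro _ ⟨i, rfl⟩
    exact hx i
  have hpr' : (P.map (φ : B →+* B ⧸ Ideal.span (Set.range x))).IsPrime := Ideal.map_isPrime_of_surjective hφ hkP
  have h1 : SLoc S (I.map (φ : B →+* B ⧸ Ideal.span (Set.range x)))
      (P.map (φ : B →+* B ⧸ Ideal.span (Set.range x))) :=
    SLoc.slices hS n (φ : B →+* B ⧸ Ideal.span (Set.range x)) hφ x hker hIP (h P inferInstance hIP) hx
      (fun c hc i => indep b hb hIP hx c hc i)
  obtain ⟨g, hg, l, hl, hIl⟩ := h1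
  obtain ⟨s, hs, hs'⟩ := exists_smul_le b hb hI hIP hx hfg
  obtain ⟨e, he, het⟩ := exists_etale b hb φ hφ hker
  obtain ⟨g, rfl⟩ := hφ g
  have hg' : g ∉ P := fun h => hg (Ideal.mem_map_of_mem _ h)
  have hP' : ∀ y, (φ : B →+* B ⧸ Ideal.span (Set.range x)) y ∈ P.map (φ : B →+* B ⧸ Ideal.span (Set.range x)) →
      y ∈ P := by
    intro y hy
    obtain ⟨z, hz, hzy⟩ := (Ideal.mem_map_iff_of_surjective _ hφ).1 hy
    have h1 : y - z ∈ P := hkP (by rw [RingHom.mem_ker, map_sub, sub_eq_zero]; exact hzy.symm)
    exact (Submodule.sub_mem_iff_left P hz).1 h1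
  let t : B := g * s * e
  have ht : t ∉ P := fun h => by
    rcases Ideal.IsPrime.mem_or_mem inferInstance h with h | h
    · rcases Ideal.IsPrime.mem_or_mem inferInstance h with h | h
      · exact hg' h
      · exact hs h
    · exact he h
  let T := Localization.Away (φ t)
  have hfpC : Algebra.FinitePresentation A (B ⧸ Ideal.span (Set.range x)) :=
    Algebra.FinitePresentation.quotient (Submodule.fg_span (Set.finite_range x))
  have hetT : Algebra.Etale A T := by
    rw [← Algebra.basicOpen_subset_etaleLocus_iff_etale] at het ⊢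
    refine Set.Subset.trans ?_ het
    intro q hq hq'
    refine hq ?_
    rw [map_mul]
    exact Ideal.mul_mem_left _ _ hq'
  have hu' : ∀ y, φ t = y → IsUnit (algebraMap (B ⧸ Ideal.span (Set.range x)) T y) := by
    rintro _ rfl
    exact IsLocalization.Away.algebraMap_isUnit _
  have hu := hu' (φ g * φ s * φ e) (by rw [map_mul, map_mul])
  rw [map_mul (algebraMap (B ⧸ Ideal.span (Set.range x)) T), map_mul (algebraMap (B ⧸ Ideal.span (Set.range x)) T),
    IsUnit.mul_iff, IsUnit.mul_iff] at hu
  obtain ⟨m, -, hm, hIm⟩ := map_isUnit hS.toGood (φ g) hl hIl T hu.1.1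
  have hJT : J.map (algebraMap A T) = Ideal.ofList m := by
    rw [← hIm]
    apply le_antisymm
    · rw [IsScalarTower.algebraMap_eq A (B ⧸ Ideal.span (Set.range x)) T, ← Ideal.map_map]
      refine Ideal.map_mono ?_
      rw [← φ.comp_algebraMap, ← Ideal.map_map]
      exact Ideal.map_mono Ideal.map_comap_le
    · rw [Ideal.map_le_iff_le_comap, Ideal.map_le_iff_le_comap]
      intro y hy
      rw [Ideal.mem_comap, Ideal.mem_comap]
      refine (Ideal.unit_mul_mem_iff_mem _ hu.1.2).1 ?_
      have h2 := Ideal.mem_map_of_mem (algebraMap (B ⧸ Ideal.span (Set.range x)) T)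
        (Ideal.mem_map_of_mem (φ : B →+* B ⧸ Ideal.span (Set.range x)) (hs' y hy))
      rw [Ideal.map_sup, Ideal.map_map (algebraMap A B)] at h2
      have h4 : (Ideal.span (Set.range x)).map (φ : B →+* B ⧸ Ideal.span (Set.range x)) = ⊥ := by
        rw [Ideal.map_eq_bot_iff_le_ker]
        exact hker.ge
      rw [h4, bot_sup_eq, Ideal.map_map, map_mul (φ : B →+* B ⧸ Ideal.span (Set.range x)) s y,
        map_mul (algebraMap (B ⧸ Ideal.span (Set.range x)) T)] at h2
      exact h2
  -- the prime of `T`
  have hdisj : Disjoint (Submonoid.powers (φ t) : Set (B ⧸ Ideal.span (Set.range x)))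
      (P.map (φ : B →+* B ⧸ Ideal.span (Set.range x)) : Set _) := by
    rw [Ideal.disjoint_powers_iff_notMem_of_isPrime]
    exact fun h => ht (hP' t h)
  have hprT : ((P.map (φ : B →+* B ⧸ Ideal.span (Set.range x))).map
      (algebraMap (B ⧸ Ideal.span (Set.range x)) T)).IsPrime :=
    IsLocalization.isPrime_of_isPrime_disjoint (Submonoid.powers (φ t)) T _ inferInstance hdisj
  have hQT : ((P.map (φ : B →+* B ⧸ Ideal.span (Set.range x))).map
      (algebraMap (B ⧸ Ideal.span (Set.range x)) T)).comap (algebraMap A T) = Q := by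
    have h5 : ((P.map (φ : B →+* B ⧸ Ideal.span (Set.range x))).map
        (algebraMap (B ⧸ Ideal.span (Set.range x)) T)).comap (algebraMap (B ⧸ Ideal.span (Set.range x)) T) =
        P.map (φ : B →+* B ⧸ Ideal.span (Set.range x)) :=
      IsLocalization.under_map_of_isPrime_disjoint (Submonoid.powers (φ t)) T inferInstance hdisj
    have h6 : (P.map (φ : B →+* B ⧸ Ideal.span (Set.range x))).comap (φ : B →+* B ⧸ Ideal.span (Set.range x)) = P :=
      le_antisymm hP' fun y hy => Ideal.mem_map_of_mem _ hy
    rw [IsScalarTower.algebraMap_eq A (B ⧸ Ideal.span (Set.range x)) T, ← Ideal.comap_comap, h5,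
      ← φ.comp_algebraMap, ← Ideal.comap_comap, h6, hPQ]
  have := sLoc_of_flat hS.toGood hm hJT _ (hJQ.trans hQT.ge)
  rw [hQT] at this
  exact this

end K473.SmDesc
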