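import Groth.Agent.SDiv.K473.SmDesc
import Mathlib.AlgebraicGeometry.Morphisms.Smooth

/-!
# Regular immersions along smooth morphisms: the geometry
-/

set_option autoImplicit false
universe u

open CategoryTheory CategoryTheory.Limits AlgebraicGeometry TopologicalSpace
open K559.Basic K559.Gen K559.GenDesc K473.Slice K473.SmDesc

namespace K473.SmGeo

variable {S : ∀ (R : Type u) [CommRing R], List R → Prop}

theorem main (hS : Good' S) {Y X T : Scheme.{u}} (p : X ⟶ T) [Smooth p] (i : Y ⟶ X) (j : Y ⟶ T)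
    [IsImmersion i] [IsImmersion j] (h : i ≫ p = j) (hi : ∀ y : Y, SAt S i (i y)) (y : Y) : SAt S j (j y) := by
  obtain ⟨U₀, hyU₀, -, hcl₀⟩ := exists_affine (i := j) y ⊤ trivial
  have hy : p (i y) = j y := by rw [← h]; rfl
  obtain ⟨V₀, hyV₀, hV₀, hcl₁⟩ := exists_affine (i := i) y (p ⁻¹ᵁ U₀.1) (by
    change p (i y) ∈ U₀.1
    rw [hy]; exact hyU₀)
  obtain ⟨W, hWo, hW⟩ := j.isEmbedding.isInducing.isOpen_iff.1 (i ⁻¹ᵁ V₀.1).isOpen
  have hyW : j y ∈ W := by
    have : y ∈ j ⁻¹' W := by rw [hW]; exact hyV₀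
    exact this
  obtain ⟨a, haW, hya⟩ := U₀.2.exists_basicOpen_le (V := ⟨W, hWo⟩) ⟨j y, hyW⟩ hyU₀
  replace hya : j y ∈ T.basicOpen a := hya
  set U := T.basicOpen a with hU
  have hUa : IsAffineOpen U := U₀.2.basicOpen a
  have hUU₀ : U ≤ U₀.1 := T.basicOpen_le a
  set V := X.basicOpen ((p.appLE U₀.1 V₀.1 hV₀).hom a) with hV
  have hVa : IsAffineOpen V := V₀.2.basicOpen _
  have hV' : V = V₀.1 ⊓ p ⁻¹ᵁ U := by
    rw [hV, hU, Scheme.Hom.preimage_basicOpen, Scheme.Hom.appLE]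
    change X.basicOpen (X.presheaf.map _ (p.app U₀.1 a)) = _
    rw [Scheme.basicOpen_res]
  have hVV₀ : V ≤ V₀.1 := X.basicOpen_le _
  have hVU : V ≤ p ⁻¹ᵁ U := by rw [hV']; exact inf_le_right
  have hjU : j ⁻¹ᵁ U ≤ i ⁻¹ᵁ V₀.1 := by
    intro z hz
    have h1 : z ∈ j ⁻¹' W := haW hz
    rw [hW] at h1
    exact h1
  have hij : i ⁻¹ᵁ V = j ⁻¹ᵁ U := by
    rw [hV', Scheme.Hom.preimage_inf, ← Scheme.Hom.comp_preimage, h]
    exact inf_eq_right.2 hjU
  have hclj : IsClosedImmersion (j ∣_ U) := isClosedImmersion_restrict_of_le hUU₀ hcl₀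
  have hcli : IsClosedImmersion (i ∣_ V) := isClosedImmersion_restrict_of_le hVV₀ hcl₁
  let := (p.appLE U V hVU).hom.toAlgebra
  have hsm : Algebra.Smooth Γ(T, U) Γ(X, V) :=
    HasRingHomProperty.appLE @Smooth p inferInstance ⟨U, hUa⟩ ⟨V, hVa⟩ hVU
  have hyV : i y ∈ V := by
    have : y ∈ i ⁻¹ᵁ V := by rw [hij]; exact hya
    exact this
  have hsq : p.appLE U V hVU ≫ i.app V = j.app U ≫ Y.presheaf.map (eqToHom hij).op := by
    subst h
    rw [Scheme.Hom.app_eq_appLE, Scheme.Hom.appLE_comp_appLE, Scheme.Hom.app_eq_appLE, Scheme.Hom.appLE_map]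
  have hinj : Function.Injective (Y.presheaf.map (eqToHom hij).op).hom :=
    (ConcreteCategory.bijective_of_isIso (Y.presheaf.map (eqToHom hij).op)).1
  have hsurj : Function.Surjective (Y.presheaf.map (eqToHom hij).op).hom :=
    (ConcreteCategory.bijective_of_isIso (Y.presheaf.map (eqToHom hij).op)).2
  have hsq' : ∀ c : Γ(T, U), (i.app V).hom (algebraMap Γ(T, U) Γ(X, V) c) =
      (Y.presheaf.map (eqToHom hij).op).hom ((j.app U).hom c) := fun c => congr($hsq c)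
  have hI := sIdeal_of_sAt hS.flat hi hVa hcli
  have hJ := sIdeal_comap hS (A := Γ(T, U)) (RingHom.ker (i.app V).hom) (fun b => by
    obtain ⟨z, hz⟩ := hsurj ((i.app V).hom b)
    obtain ⟨c, rfl⟩ := app_surjective hUa hclj z
    refine ⟨c, ?_⟩
    rw [RingHom.mem_ker, map_sub, hsq', hz, sub_self]) hI
  have hker : (RingHom.ker (i.app V).hom).comap (algebraMap Γ(T, U) Γ(X, V)) = RingHom.ker (j.app U).hom := by
    ext c
    rw [Ideal.mem_comap, RingHom.mem_ker, RingHom.mem_ker, hsq', map_eq_zero_iff _ hinj]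
  rw [hker] at hJ
  exact sAt_of_sIdeal hS.flat hUa hclj hJ y hya

end K473.SmGeo
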